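import Mathlib
import Cfsg.Agent.Lib.SL2.ShortPres
import Cfsg.Agent.Lib.BoundedPresentation.Pres

/-!
Groups generated by a root element, a central root element and a torus element: commuting families and an
order bound.
-/

set_option autoImplicit false
set_option linter.style.haveILetI false

namespace Cfsg.Agent.Lib.BoundedPresentation

open Polynomial

/-- A presentation from an order bound on every cover. -/
theorem pres_of_bound.{u} {ι : Type} {H : Type u} [Group H] [Finite H] {N : ι → H} {r : ℕ}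
    (hgen : Subgroup.closure (Set.range N) = ⊤) (R : Finset (FreeGroup ι)) (hc : R.card ≤ r)
    (holds : ∀ x ∈ R, FreeGroup.lift N x = 1)
    (bound : ∀ (Γ : Type u) [Group Γ] (y : ι → Γ), (∀ x ∈ R, FreeGroup.lift y x = 1) →
      Subgroup.closure (Set.range y) = ⊤ → Finite Γ ∧ Nat.card Γ ≤ Nat.card H) : Pres N r := by
  classical
  refine ⟨R, hc, holds, fun G _ y hy => ?_⟩
  set p : ι → H × G := fun i => (N i, y i) with hp
  set Γ : Subgroup (H × G) := Subgroup.closure (Set.range p) with hΓ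
  let yΓ : ι → Γ := fun i => ⟨p i, Subgroup.subset_closure ⟨i, rfl⟩⟩
  have htop : Subgroup.closure (Set.range yΓ) = ⊤ := by
    apply Subgroup.map_injective Γ.subtype_injective
    rw [MonoidHom.map_closure, ← Set.range_comp, ← MonoidHom.range_eq_map, Subgroup.range_subtype]
    rfl
  have hrel : ∀ x ∈ R, FreeGroup.lift yΓ x = 1 := by
    intro x hx
    have e1 := map_lift ((MonoidHom.fst H G).comp Γ.subtype) yΓ x
    have e2 := map_lift ((MonoidHom.snd H G).comp Γ.subtype) yΓ x
    apply Subtype.ext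
    exact Prod.ext (e1.trans (holds x hx)) (e2.trans (hy x hx))
  obtain ⟨hfin, hcard⟩ := bound Γ yΓ hrel htop
  let π : Γ →* H := (MonoidHom.fst H G).comp Γ.subtype
  have hsurj : Function.Surjective π := by
    rw [← MonoidHom.range_eq_top, eq_top_iff, ← hgen, Subgroup.closure_le]
    rintro _ ⟨i, rfl⟩
    exact ⟨yΓ i, rfl⟩
  let e := MulEquiv.ofBijective π (Function.Surjective.bijective_of_nat_card_le hsurj hcard)
  refine ⟨((MonoidHom.snd H G).comp Γ.subtype).comp e.symm.toMonoidHom, fun i => ?_⟩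
  have h : e.symm (N i) = yΓ i := e.symm_apply_eq.2 rfl
  simp only [MonoidHom.comp_apply, MulEquiv.coe_toMonoidHom, h]
  rfl

namespace U3

open Cfsg.Agent.Lib.SL2.ShortPres
open scoped commutatorElement

variable {G : Type*} [Group G]

/-- All conjugates lie in the group of the first ones. -/
theorem cj_mem_window {g x : G} {m : ℤ[X]} (hmon : m.Monic) (hm : wd g x m = 1) (n : ℕ) :
    cj g x n ∈ Subgroup.closure (cj g x '' {j | j < m.natDegree}) := by
  induction n using Nat.strong_induction_on with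
  | _ n ih =>
    rcases Nat.lt_or_ge n m.natDegree with hn | hn
    · exact Subgroup.subset_closure ⟨n, hn, rfl⟩
    · rw [wd, List.range_succ, List.map_append, List.prod_append] at hm
      simp only [List.map_cons, List.map_nil, List.prod_cons, List.prod_nil, mul_one,
        hmon.coeff_natDegree, zpow_one] at hm
      have he := congrArg (MulAut.conj (g ^ (n - m.natDegree))) hm
      rw [map_mul, map_one, map_list_prod, List.map_map] at he
      simp only [MulAut.conj_apply, cj_add, Nat.sub_add_cancel hn] at he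
      rw [← eq_inv_of_mul_eq_one_right he |>.symm]
      refine Subgroup.inv_mem _ (Subgroup.list_prod_mem _ fun z hz => ?_)
      obtain ⟨j, hj, rfl⟩ := List.mem_map.1 hz
      rw [List.mem_range] at hj
      simp only [Function.comp_apply, MulAut.conj_apply, ← conj_zpow, cj_add]
      exact Subgroup.zpow_mem _ (ih _ (by omega)) _

theorem commute_cj_shift {g x : G} {i j : ℕ} (hij : i ≤ j) (h : Commute x (cj g x (j - i))) :
    Commute (cj g x i) (cj g x j) := by
  have h1 : Commute (MulAut.conj (g ^ i) x) (MulAut.conj (g ^ i) (cj g x (j - i))) :=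
    h.map (MulAut.conj (g ^ i)).toMonoidHom
  rw [MulAut.conj_apply, MulAut.conj_apply, cj_add, Nat.add_sub_cancel' hij] at h1
  exact h1

theorem commute_of_window {g x : G} {m : ℤ[X]} (hmon : m.Monic) (hm : wd g x m = 1) {d : ℕ}
    (hd : m.natDegree ≤ d) (h : ∀ j < d, Commute x (cj g x j)) (a b : ℕ) :
    Commute (cj g x a) (cj g x b) := by
  refine commute_closure ?_ (cj_mem_window hmon hm a) (cj_mem_window hmon hm b)
  rintro _ ⟨i, hi, rfl⟩ _ ⟨j, hj, rfl⟩
  simp only [Set.mem_setOf_eq] at hi hj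
  rcases le_total i j with hij | hij
  · exact commute_cj_shift hij (h _ (by omega))
  · exact (commute_cj_shift hij (h _ (by omega))).symm

theorem commute_of_mem_closure {x : G} {S : Set G} (h : ∀ y ∈ S, Commute x y) {y : G}
    (hy : y ∈ Subgroup.closure S) : Commute x y := by
  induction hy using Subgroup.closure_induction with
  | mem y hy => exact h y hy
  | one => exact Commute.one_right _
  | mul u v _ _ hu hv => exact hu.mul_right hv
  | inv u _ hu => exact hu.inv_right

/-- The subgroup of the central root elements. -/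
abbrev zc (h z : G) : Subgroup G := Subgroup.closure (Set.range (cj h z))

theorem wd_mem_zc (h z : G) (P : ℤ[X]) : wd h z P ∈ zc h z := wd_mem_closure h z P

theorem zc_normal {x z h : G} {n : ℕ} (hn : 0 < n) (hord : h ^ n = 1)
    (hgen : Subgroup.closure ({x, z, h} : Set G) = ⊤) (hzc : ∀ a b, Commute (cj h z a) (cj h z b))
    (hcent : ∀ a, Commute x (cj h z a)) : (zc h z).Normal := by
  have hx : ∀ y ∈ zc h z, Commute x y := fun y hy =>
    commute_of_mem_closure (by rintro _ ⟨a, rfl⟩; exact hcent a) hy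
  have hz : ∀ y ∈ zc h z, Commute z y := fun y hy =>
    commute_of_mem_closure (by rintro _ ⟨a, rfl⟩; simpa only [cj_zero] using hzc 0 a) hy
  have hh : ∀ k : ℕ, ∀ y ∈ zc h z, h ^ k * y * (h ^ k)⁻¹ ∈ zc h z := by
    intro k
    induction k with
    | zero => intro y hy; simpa using hy
    | succ k ih =>
      intro y hy
      have e : h ^ (k + 1) * y * (h ^ (k + 1))⁻¹ = h * (h ^ k * y * (h ^ k)⁻¹) * h⁻¹ := by
        rw [pow_succ']; group
      rw [e]
      exact conj_mem_closure h z (ih y hy)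
  have hhinv : h⁻¹ = h ^ (n - 1) := inv_eq_of_mul_eq_one_right (by
    rw [← pow_succ', Nat.sub_add_cancel hn, hord])
  refine ⟨fun y hy g => ?_⟩
  have hg : g ∈ Subgroup.closure ({x, z, h} : Set G) := hgen ▸ trivial
  induction hg using Subgroup.closure_induction_left generalizing y with
  | one => simpa using hy
  | mul_left a ha g _ ih =>
    have e : a * g * y * (a * g)⁻¹ = a * (g * y * g⁻¹) * a⁻¹ := by group
    rw [e]
    have h1 := ih y hy
    rcases ha with rfl | rfl | rfl
    · rwa [(hx _ h1).eq, mul_inv_cancel_right]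
    · rwa [(hz _ h1).eq, mul_inv_cancel_right]
    · simpa using hh 1 _ h1
  | inv_mul_cancel a ha g _ ih =>
    have e : a⁻¹ * g * y * (a⁻¹ * g)⁻¹ = a⁻¹ * (g * y * g⁻¹) * a := by group
    rw [e]
    have h1 := ih y hy
    rcases ha with rfl | rfl | rfl
    · rwa [mul_assoc, ← (hx _ h1).eq, inv_mul_cancel_left]
    · rwa [mul_assoc, ← (hz _ h1).eq, inv_mul_cancel_left]
    · have := hh (n - 1) _ h1
      rwa [← hhinv, inv_inv] at this

theorem commutator_mem_iff (N : Subgroup G) [N.Normal] (a b : G) :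
    ⁅a, b⁆ ∈ N ↔ Commute (a : G ⧸ N) (b : G ⧸ N) := by
  rw [← QuotientGroup.eq_one_iff, ← QuotientGroup.mk'_apply N, map_commutatorElement,
    commutatorElement_eq_one_iff_mul_comm]
  rfl

theorem mk_cj (N : Subgroup G) [N.Normal] (g x : G) (j : ℕ) :
    ((cj g x j : G) : G ⧸ N) = cj (g : G ⧸ N) (x : G ⧸ N) j :=
  map_cj (QuotientGroup.mk' N) g x j

theorem mk_wd (N : Subgroup G) [N.Normal] (g x : G) (P : ℤ[X]) :
    ((wd g x P : G) : G ⧸ N) = wd (g : G ⧸ N) (x : G ⧸ N) P :=
  map_wd (QuotientGroup.mk' N) g x P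

/-- The order bound. -/
theorem finite_card_le {x z h : G} {n i p : ℕ} (hn : 0 < n)
    (hgen : Subgroup.closure ({x, z, h} : Set G) = ⊤) (hord : h ^ n = 1)
    {K : Type*} [CommRing K] [Finite K] (μ : K) (m : ℤ[X])
    (hker : ∀ P : ℤ[X], aeval μ P = 0 → ∃ Q R, P = C (p : ℤ) * Q + m * R)
    (hsurj : ∀ u : K, ∃ P : ℤ[X], aeval μ P = u)
    (hzp : z ^ p = 1) (hzm : wd h z m = 1) (hzc : ∀ a b, Commute (cj h z a) (cj h z b))
    (hcent : ∀ a, Commute x (cj h z a))
    {F : Type*} [CommRing F] [Finite F] (τ : F) (mx : ℤ[X])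
    (hkerx : ∀ P : ℤ[X], aeval τ P = 0 → ∃ Q R, P = C (p : ℤ) * Q + mx * R)
    (hsurjx : ∀ u : F, ∃ P : ℤ[X], aeval τ P = u)
    (hxp : x ^ p ∈ zc h z) (hxm : wd (h ^ i) x mx ∈ zc h z) (Pν : ℤ[X])
    (hν : h * x * h⁻¹ * (wd (h ^ i) x Pν)⁻¹ ∈ zc h z)
    (hxc : ∀ a b, ⁅cj (h ^ i) x a, cj (h ^ i) x b⁆ ∈ zc h z) :
    Finite G ∧ Nat.card G ≤ Nat.card F * Nat.card K * n := by
  classical
  haveI hN := zc_normal hn hord hgen hzc hcent
  obtain ⟨Z, hZadd, hZ1, hZh⟩ := exists_addHom h z hzc p μ m hzp hzm hker hsurj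
  let ζ : Multiplicative K →* G := MonoidHom.mk' (fun u => Z u.toAdd) fun s t => (hZadd _ _).symm
  have hle : zc h z ≤ ζ.range := by
    rw [zc, Subgroup.closure_le]
    rintro _ ⟨j, rfl⟩
    exact ⟨Multiplicative.ofAdd (μ ^ j), (cj_eq hZ1 hZh j).symm⟩
  haveI : Finite ζ.range := Finite.of_surjective _ ζ.rangeRestrict_surjective
  have hcK : Nat.card (zc h z) ≤ Nat.card K :=
    (Subgroup.card_le_of_le hle).trans (Nat.card_le_card_of_surjective
      (fun u : K => ζ.rangeRestrict (Multiplicative.ofAdd u))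
      (fun v => by obtain ⟨u, hu⟩ := ζ.rangeRestrict_surjective v; exact ⟨u.toAdd, hu⟩))
  set mk := QuotientGroup.mk' (zc h z) with hmk
  have hone : ∀ {w : G}, w ∈ zc h z → mk w = 1 := fun hw => (QuotientGroup.eq_one_iff _).2 hw
  have hc : ∀ a b, Commute (cj (mk h ^ i) (mk x) a) (cj (mk h ^ i) (mk x) b) := fun a b => by
    have := (commutator_mem_iff _ _ _).1 (hxc a b)
    rw [mk_cj, mk_cj] at this
    exact this
  obtain ⟨X, hXadd, hX1, hXg⟩ := exists_addHom (mk h ^ i) (mk x) hc p τ mx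
    (by rw [← map_pow]; exact hone hxp) (by rw [← map_pow, ← map_wd]; exact hone hxm) hkerx hsurjx
  let χ : Multiplicative F →* G ⧸ zc h z := MonoidHom.mk' (fun u => X u.toAdd) fun s t => (hXadd _ _).symm
  have hh1 : mk h * mk x * (mk h)⁻¹ = X (aeval τ Pν) := by
    have h1 := hone hν
    rw [map_mul, map_inv, map_mul, map_mul, map_inv, map_wd, map_pow, mul_inv_eq_one] at h1
    rw [h1, wd_eq _ _ _ X hXadd hX1 hXg]
  haveI : Finite χ.range := Finite.of_surjective _ χ.rangeRestrict_surjective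
  have hconj : ∀ u, ∃ u', mk h * X u * (mk h)⁻¹ = X u' := by
    intro u
    obtain ⟨P, rfl⟩ := hsurjx u
    induction P using Polynomial.induction_on' with
    | add P Q hP hQ =>
      obtain ⟨a, ha⟩ := hP
      obtain ⟨b, hb⟩ := hQ
      refine ⟨a + b, ?_⟩
      rw [map_add, ← hXadd, ← hXadd, ← ha, ← hb]
      group
    | monomial j c =>
      refine ⟨c • (τ ^ j * aeval τ Pν), ?_⟩
      have hz : ∀ (c : ℤ) (v : F), X (c • v) = X v ^ c := fun c v =>
        χ.map_zpow (Multiplicative.ofAdd v) c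
      have hj : ∀ (j : ℕ) (v : F), (mk h ^ i) ^ j * X v * ((mk h ^ i) ^ j)⁻¹ = X (τ ^ j * v) := by
        intro j
        induction j with
        | zero => intro v; simp
        | succ j ihj =>
          intro v
          rw [pow_succ' (mk h ^ i), pow_succ' τ, mul_assoc τ, ← hXg, ← ihj]
          group
      rw [aeval_monomial, algebraMap_int_eq, eq_intCast, ← zsmul_eq_mul, hz, hz, ← conj_zpow,
        show X (τ ^ j) = (mk h ^ i) ^ j * mk x * ((mk h ^ i) ^ j)⁻¹ by rw [← hX1, hj, mul_one],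
        ← hj, ← hh1, ← pow_mul]
      congr 1
      have e : Commute (mk h) (mk h ^ (i * j)) := (Commute.refl _).pow_right _
      calc mk h * (mk h ^ (i * j) * mk x * (mk h ^ (i * j))⁻¹) * (mk h)⁻¹
          = (mk h * mk h ^ (i * j)) * mk x * (mk h * mk h ^ (i * j))⁻¹ := by group
        _ = (mk h ^ (i * j) * mk h) * mk x * (mk h ^ (i * j) * mk h)⁻¹ := by rw [e.eq]
        _ = _ := by group
  have hxrange : mk x ∈ χ.range := ⟨Multiplicative.ofAdd 1, hX1⟩
  have hmh : mk h ∈ Subgroup.normalizer (χ.range : Set (G ⧸ zc h z)) :=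
    Subgroup.mem_normalizer_fintype (by
      rintro _ ⟨u, rfl⟩
      obtain ⟨u', hu'⟩ := hconj u.toAdd
      exact ⟨Multiplicative.ofAdd u', hu'.symm⟩)
  have htop : Subgroup.closure ({mk x, mk h} : Set (G ⧸ zc h z)) = ⊤ := by
    have h1 := congrArg (Subgroup.map mk) hgen
    rw [MonoidHom.map_closure, Subgroup.map_top_of_surjective _ (QuotientGroup.mk'_surjective _)] at h1
    rw [eq_top_iff, ← h1, Subgroup.closure_le]
    rintro _ ⟨w, rfl | rfl | rfl, rfl⟩
    · exact Subgroup.subset_closure (Or.inl rfl)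
    · rw [hone (Subgroup.subset_closure ⟨0, cj_zero h w⟩)]
      exact one_mem _
    · exact Subgroup.subset_closure (Or.inr rfl)
  haveI hχn : χ.range.Normal := by
    rw [← Subgroup.normalizer_eq_top_iff, eq_top_iff, ← htop, Subgroup.closure_le]
    rintro _ (rfl | rfl)
    · exact Subgroup.le_normalizer hxrange
    · exact hmh
  haveI hzfin : Finite (Subgroup.zpowers (mk h)) :=
    (isOfFinOrder_iff_pow_eq_one.2 ⟨n, hn, by rw [← map_pow, hord, map_one]⟩).finite_zpowers
  have hsup : χ.range ⊔ Subgroup.zpowers (mk h) = ⊤ := by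
    rw [eq_top_iff, ← htop, Subgroup.closure_le]
    rintro _ (rfl | rfl)
    · exact Subgroup.mem_sup_left hxrange
    · exact Subgroup.mem_sup_right (Subgroup.mem_zpowers _)
  let Φ : F × Subgroup.zpowers (mk h) → G ⧸ zc h z := fun w => X w.1 * (w.2 : G ⧸ zc h z)
  have hΦ : Function.Surjective Φ := by
    intro w
    have hw : w ∈ χ.range ⊔ Subgroup.zpowers (mk h) := hsup ▸ trivial
    rw [← SetLike.mem_coe, Subgroup.normal_mul] at hw
    obtain ⟨_, ⟨u, rfl⟩, b, hb, rfl⟩ := hw
    exact ⟨(u.toAdd, ⟨b, hb⟩), rfl⟩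
  haveI : Finite (G ⧸ zc h z) := Finite.of_surjective Φ hΦ
  have hzle : Nat.card (Subgroup.zpowers (mk h)) ≤ n := by
    rw [Nat.card_zpowers]
    exact orderOf_le_of_pow_eq_one hn (by rw [← map_pow, hord, map_one])
  have hQ : Nat.card (G ⧸ zc h z) ≤ Nat.card F * n :=
    (Nat.card_le_card_of_surjective Φ hΦ).trans (by rw [Nat.card_prod]; exact Nat.mul_le_mul_left _ hzle)
  haveI : Finite (zc h z) := Finite.of_injective _ (Subgroup.inclusion_injective hle)
  have hG : Nat.card G = Nat.card (G ⧸ zc h z) * Nat.card (zc h z) :=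
    Subgroup.card_eq_card_quotient_mul_card_subgroup _
  refine ⟨Nat.finite_of_card_ne_zero ?_, ?_⟩
  · rw [hG]; exact Nat.mul_ne_zero Nat.card_pos.ne' Nat.card_pos.ne'
  · rw [hG, mul_right_comm]
    exact Nat.mul_le_mul hQ hcK

/-- Centrality from one commutation. -/
theorem cent_of_rel {x z h : G} {p k r : ℕ} {K : Type*} [CommRing K] (μ : K) (m : ℤ[X])
    (hker : ∀ P : ℤ[X], aeval μ P = 0 → ∃ Q R, P = C (p : ℤ) * Q + m * R)
    (hsurj : ∀ u : K, ∃ P : ℤ[X], aeval μ P = u) (hμ : μ ^ k = 1) (hμr : μ ^ r * μ = 1)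
    (hzp : z ^ p = 1) (hzm : wd h z m = 1) (hzc : ∀ a b, Commute (cj h z a) (cj h z b))
    (hxz : Commute x z) (P : ℤ[X]) (hx : h * x * h⁻¹ * (wd (h ^ k) x P)⁻¹ ∈ zc h z) (n : ℕ) :
    Commute x (cj h z n) := by
  obtain ⟨Z, hZadd, hZ1, hZh⟩ := exists_addHom h z hzc p μ m hzp hzm hker hsurj
  have hZj : ∀ (j : ℕ) (u : K), h ^ j * Z u * (h ^ j)⁻¹ = Z (μ ^ j * u) := by
    intro j
    induction j with
    | zero => intro u; simp
    | succ j ih =>
      intro u
      rw [pow_succ' h, pow_succ' μ, mul_assoc μ, ← hZh, ← ih]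
      group
  have hstep : ∀ u, Commute x (Z (μ * u)) → Commute x (Z u) := by
    intro u hu
    have hfix : ∀ j : ℕ, (h ^ k) ^ j * Z (μ * u) * ((h ^ k) ^ j)⁻¹ = Z (μ * u) := fun j => by
      rw [← pow_mul, hZj, pow_mul, hμ, one_pow, one_mul]
    have h1 : Commute (Z (μ * u)) (wd (h ^ k) x P) := by
      refine commute_of_mem_closure ?_ (wd_mem_closure (h ^ k) x P)
      rintro _ ⟨j, rfl⟩
      have := hu.symm.map (MulAut.conj ((h ^ k) ^ j)).toMonoidHom
      simp only [MulEquiv.coe_toMonoidHom, MulAut.conj_apply, hfix] at this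
      exact this
    have h2 : Commute (Z (μ * u)) (h * x * h⁻¹ * (wd (h ^ k) x P)⁻¹) := by
      refine commute_of_mem_closure ?_ hx
      rintro _ ⟨a, rfl⟩
      rw [cj_eq hZ1 hZh]
      show Z _ * Z _ = Z _ * Z _
      rw [hZadd, hZadd, add_comm]
    have h3 : Commute (Z (μ * u)) (h * x * h⁻¹) := by simpa using h2.mul_right h1
    rw [← hZh] at h3
    have h4 := h3.map (MulAut.conj h⁻¹).toMonoidHom
    simp only [MulEquiv.coe_toMonoidHom, MulAut.conj_apply, inv_inv, mul_assoc, inv_mul_cancel_left,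
      inv_mul_cancel, mul_one] at h4
    exact h4.symm
  have hpow : ∀ j, Commute x (Z ((μ ^ r) ^ j)) := by
    intro j
    induction j with
    | zero => rw [pow_zero, hZ1]; exact hxz
    | succ j ih =>
      refine hstep _ ?_
      have e : μ * (μ ^ r) ^ (j + 1) = (μ ^ r) ^ j := by
        rw [pow_succ' (μ ^ r), ← mul_assoc, mul_comm μ, hμr, one_mul]
      rwa [e]
  rw [cj_eq hZ1 hZh]
  have e : (μ ^ r) ^ (r * n) = μ ^ n := by
    have h1 : μ ^ (r + 1) = 1 := by rw [pow_succ]; exact hμr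
    calc (μ ^ r) ^ (r * n) = (μ ^ r) ^ (r * n) * (μ ^ (r + 1)) ^ n := by rw [h1, one_pow, mul_one]
      _ = μ ^ n * (μ ^ (r + 1)) ^ (r * n) := by rw [← pow_mul, ← pow_mul, ← pow_mul, ← pow_add, ← pow_add]; ring_nf
      _ = μ ^ n := by rw [h1, one_pow, mul_one]
  rw [← e]
  exact hpow _

end U3

end Cfsg.Agent.Lib.BoundedPresentation
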