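import Mathlib
import Cfsg.Agent.Lib.Forms.Bridge

/-!
The field with `q ^ 2` elements with its involution: generators of the field and of its fixed field.
-/

set_option autoImplicit false
set_option linter.style.haveILetI false

namespace Cfsg.Agent.Lib.BoundedPresentation.U3

open Polynomial

/-- A field with `q ^ 2` elements, its involution, a primitive element and an element of trace zero. -/
structure UData (F : Type*) [Field F] [Fintype F] where
  /-- The order of the fixed field. -/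
  q : ℕ
  /-- The characteristic. -/
  p : ℕ
  /-- The degree of the fixed field. -/
  f : ℕ
  /-- The involution. -/
  σ : F →+* F
  σ_eq : ∀ x, σ x = x ^ q
  hp : p.Prime
  hqp : q = p ^ f
  char : CharP F p
  card : Fintype.card F = q ^ 2
  /-- A primitive element. -/
  ω : Fˣ
  hω : ∀ x : Fˣ, x ∈ Subgroup.zpowers ω
  /-- An element of trace zero. -/
  θ : F
  θ_ne : θ ≠ 0
  θ_σ : σ θ = -θ

theorem exists_uData {F : Type*} [Field F] [Fintype F] {q : ℕ} (hF : Fintype.card F = q ^ 2) :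
    ∃ D : UData F, D.q = q := by
  obtain ⟨⟨k, hk⟩, hp, hcard⟩ := FiniteField.card F (ringChar F)
  simp only [PNat.mk_coe] at hcard
  have hq : q ∣ ringChar F ^ k := hcard ▸ hF ▸ dvd_pow_self q two_ne_zero
  obtain ⟨f, -, rfl⟩ := (Nat.dvd_prime_pow hp).1 hq
  obtain ⟨ω, hω⟩ := IsCyclic.exists_generator (α := Fˣ)
  obtain ⟨x, hx⟩ : ∃ x, Forms.qPowHom hF x ≠ x := by
    by_contra h
    push Not at h
    exact Forms.qPowHom_ne_id hF (RingHom.ext h)
  exact ⟨{
    q := _, p := ringChar F, f := f, σ := Forms.qPowHom hF, σ_eq := Forms.qPowHom_apply hF, hp := hp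
    hqp := rfl, char := ringChar.charP F, card := hF, ω := ω, hω := hω
    θ := Forms.qPowHom hF x - x, θ_ne := sub_ne_zero.2 hx
    θ_σ := by rw [map_sub, Forms.qPowHom_qPowHom]; ring }, rfl⟩

namespace UData

variable {F : Type*} [Field F] [Fintype F] (D : UData F)

theorem σσ (x : F) : D.σ (D.σ x) = x := by rw [D.σ_eq, D.σ_eq]; exact Forms.pow_q_pow_q D.card x

theorem two_le_q : 2 ≤ D.q := Forms.two_le_of_card_sq D.card

theorem f_pos : 0 < D.f := by
  rcases Nat.eq_zero_or_pos D.f with h | h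
  · have := D.two_le_q; rw [D.hqp, h, pow_zero] at this; omega
  · exact h

theorem card_eq_pow : Fintype.card F = D.p ^ (2 * D.f) := by
  rw [D.card, D.hqp, ← pow_mul, mul_comm]

theorem sq_sub_one : D.q ^ 2 - 1 = (D.q - 1) * (D.q + 1) := by
  rw [← one_pow 2, Nat.sq_sub_sq, one_pow, mul_comm]

theorem orderOf_ω : orderOf D.ω = D.q ^ 2 - 1 := by
  rw [orderOf_eq_card_of_forall_mem_zpowers D.hω, Nat.card_units, Nat.card_eq_fintype_card, D.card]

theorem ω_pow_eq_one {n : ℕ} : D.ω ^ n = 1 ↔ D.q ^ 2 - 1 ∣ n := by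
  rw [← D.orderOf_ω, orderOf_dvd_iff_pow_eq_one]

theorem exists_pow (x : Fˣ) : ∃ n : ℕ, D.ω ^ n = x :=
  Submonoid.mem_powers_iff x _ |>.1 (mem_powers_iff_mem_zpowers.2 (D.hω x))

theorem ω_pow_val_eq_one {n : ℕ} : (D.ω : F) ^ n = 1 ↔ D.q ^ 2 - 1 ∣ n := by
  rw [← D.ω_pow_eq_one, ← Units.val_pow_eq_pow_val, Units.val_eq_one]

theorem pow_q_sub_one_eq_one {r : F} (hr : D.σ r = r) (hr0 : r ≠ 0) : r ^ (D.q - 1) = 1 := by
  rw [D.σ_eq] at hr
  have h : r * r ^ (D.q - 1) = r * 1 := by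
    rw [← pow_succ', Nat.sub_add_cancel (by have := D.two_le_q; omega : 1 ≤ D.q), mul_one, hr]
  exact mul_left_cancel₀ hr0 h

theorem dvd_of_fixed {n : ℕ} (h : D.σ ((D.ω : F) ^ n) = (D.ω : F) ^ n) : D.q + 1 ∣ n := by
  have h1 := D.pow_q_sub_one_eq_one h (pow_ne_zero _ D.ω.ne_zero)
  rw [← pow_mul, D.ω_pow_val_eq_one, D.sq_sub_one, mul_comm (D.q - 1)] at h1
  exact Nat.dvd_of_mul_dvd_mul_right (by have := D.two_le_q; omega) h1

theorem σ_ne {n : ℕ} (h : ¬ D.q + 1 ∣ n) : D.σ ((D.ω : F) ^ n) ≠ (D.ω : F) ^ n :=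
  fun e => h (D.dvd_of_fixed e)

theorem σ_ω_ne : D.σ (D.ω : F) ≠ (D.ω : F) := by
  have h := D.σ_ne (n := 1) (by rw [Nat.dvd_one]; have := D.two_le_q; omega)
  simpa using h

/-- The fixed field. -/
def K : Subfield F := D.σ.eqLocusField (RingHom.id F)

theorem mem_K {x : F} : x ∈ D.K ↔ D.σ x = x := Iff.rfl

/-- The norm of the primitive element. -/
def μ : Fˣ := D.ω ^ (D.q + 1)

theorem μ_val : (D.μ : F) = D.ω * D.σ D.ω := by
  rw [μ, D.σ_eq, Units.val_pow_eq_pow_val, pow_succ']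

theorem σ_μ : D.σ (D.μ : F) = D.μ := by rw [D.μ_val, map_mul, D.σσ, mul_comm]

theorem exists_μ_pow {c : F} (hc : D.σ c = c) (hc0 : c ≠ 0) : ∃ n : ℕ, (D.μ : F) ^ n = c := by
  obtain ⟨n, hn⟩ := D.exists_pow (Units.mk0 c hc0)
  have hn' : (D.ω : F) ^ n = c := by rw [← Units.val_pow_eq_pow_val, hn]; rfl
  obtain ⟨k, rfl⟩ := D.dvd_of_fixed (n := n) (by rw [hn', hc])
  exact ⟨k, by rw [μ, Units.val_pow_eq_pow_val, ← pow_mul, hn']⟩

theorem orderOf_μ : orderOf D.μ = D.q - 1 := by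
  have := D.two_le_q
  rw [μ, orderOf_pow_of_dvd (by omega) (by rw [D.orderOf_ω, D.sq_sub_one]; exact dvd_mul_left _ _),
    D.orderOf_ω, D.sq_sub_one, Nat.mul_div_cancel _ (by omega)]

/-- The norm of the primitive element inside the fixed field. -/
def μK : D.K := ⟨D.μ, D.σ_μ⟩

theorem natCard_K : Nat.card D.K = D.q := by
  haveI : Finite D.K := Finite.of_injective _ Subtype.val_injective
  have hq := D.two_le_q
  set u : D.Kˣ := Units.mk0 D.μK (fun h => D.μ.ne_zero (congrArg Subtype.val h)) with hu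
  have hgen : ∀ x : D.Kˣ, x ∈ Subgroup.zpowers u := fun x => by
    obtain ⟨n, hn⟩ := D.exists_μ_pow (D.mem_K.1 (x : D.K).2) (by
      intro h; exact x.ne_zero (Subtype.ext h))
    exact ⟨n, Units.ext (Subtype.ext (by simp [hu, μK, hn]))⟩
  have h := orderOf_eq_card_of_forall_mem_zpowers hgen
  have e : orderOf u = orderOf D.μ := by
    rw [← orderOf_units, ← orderOf_units]
    exact (orderOf_injective D.K.subtype.toMonoidHom Subtype.val_injective _).symm
  rw [e, D.orderOf_μ, Nat.card_units] at h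
  have : 0 < Nat.card D.K := Nat.card_pos
  omega

/-- Every element of the fixed field is a polynomial in `μ`. -/
theorem μK_surj (u : D.K) : ∃ P : ℤ[X], aeval D.μK P = u := by
  by_cases hu : (u : F) = 0
  · exact ⟨0, by rw [map_zero]; exact Subtype.ext hu.symm⟩
  · obtain ⟨n, hn⟩ := D.exists_μ_pow (D.mem_K.1 u.2) hu
    exact ⟨X ^ n, Subtype.ext (by simp [μK, hn])⟩

theorem surj_or_small (y : F) : (∀ u : F, ∃ P : ℤ[X], aeval y P = u) ∨
    ∃ e, 0 < e ∧ e ≤ D.f ∧ e ∣ 2 * D.f ∧ y ^ (D.p ^ e) = y := by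
  haveI := Fact.mk D.hp
  haveI := D.char
  letI := ZMod.algebra F D.p
  have hint : IsIntegral (ZMod D.p) y := IsIntegral.of_finite _ y
  set A := IntermediateField.adjoin (ZMod D.p) {y}
  have hfin : Module.finrank (ZMod D.p) F = 2 * D.f := by
    have h := Module.card_eq_pow_finrank (K := ZMod D.p) (V := F)
    rw [ZMod.card, D.card_eq_pow] at h
    exact (Nat.pow_right_injective D.hp.two_le h).symm
  have htow := Module.finrank_mul_finrank (ZMod D.p) A F
  rw [hfin] at htow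
  rcases eq_or_ne A ⊤ with htop | hne
  · left
    intro u
    have hu : u ∈ Algebra.adjoin (ZMod D.p) {y} := by
      rw [← IntermediateField.adjoin_simple_toSubalgebra_of_isAlgebraic hint.isAlgebraic]
      show u ∈ A
      rw [htop]; trivial
    rw [Algebra.adjoin_singleton_eq_range_aeval] at hu
    obtain ⟨P', hP'⟩ := hu
    obtain ⟨P, rfl⟩ := Polynomial.map_surjective (Int.castRingHom (ZMod D.p)) ZMod.intCast_surjective P'
    exact ⟨P, (aeval_map_algebraMap (ZMod D.p) y P).symm.trans hP'⟩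
  · right
    refine ⟨Module.finrank (ZMod D.p) A, Module.finrank_pos, ?_, ⟨_, htow.symm⟩, ?_⟩
    · have h1 : 0 < Module.finrank A F := Module.finrank_pos
      have h2 : Module.finrank A F ≠ 1 := fun h => hne (IntermediateField.finrank_eq_one_iff_eq_top.1 h)
      have h3 : Module.finrank (ZMod D.p) A * 2 ≤ Module.finrank (ZMod D.p) A * Module.finrank A F :=
        Nat.mul_le_mul_left _ (by omega)
      omega
    · haveI : Finite A := Finite.of_injective _ Subtype.val_injective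
      letI := Fintype.ofFinite A
      have hA : Fintype.card A = D.p ^ Module.finrank (ZMod D.p) A := by
        rw [Module.card_eq_pow_finrank (K := ZMod D.p), ZMod.card]
      have hy : y ∈ A := IntermediateField.mem_adjoin_simple_self _ y
      have := congrArg Subtype.val (FiniteField.pow_card (⟨y, hy⟩ : A))
      rwa [hA] at this

theorem pow_pe {y : F} (hy : y ≠ 0) {e : ℕ} (h : y ^ (D.p ^ e) = y) : y ^ (D.p ^ e - 1) = 1 := by
  apply mul_left_cancel₀ hy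
  rw [← pow_succ', Nat.sub_add_cancel (Nat.one_le_pow _ _ D.hp.pos), h, mul_one]

/-- The multiplier of the torus on the root group modulo its centre. -/
def ν : Fˣ := D.ω ^ 2 * (D.ω ^ D.q)⁻¹

theorem ν_val : (D.ν : F) = (D.ω : F) ^ 2 / D.σ D.ω := by
  rw [ν, D.σ_eq, div_eq_mul_inv]; simp

theorem ν_pow_eq_one {n : ℕ} (h : (D.ν : F) ^ n = 1) : D.q ^ 2 - 1 ∣ (D.q - 2) * n := by
  rw [← D.ω_pow_eq_one]
  rw [← Units.val_pow_eq_pow_val, Units.val_eq_one, ν, mul_pow, inv_pow, mul_inv_eq_one, ← pow_mul,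
    ← pow_mul] at h
  have h2 := D.two_le_q
  have e : D.q * n = (D.q - 2) * n + 2 * n := by rw [← add_mul, Nat.sub_add_cancel h2]
  rw [e, pow_add] at h
  exact mul_right_cancel (h.symm.trans (one_mul _).symm)

theorem ν_surj (hq : 3 ≤ D.q) (u : F) : ∃ P : ℤ[X], aeval (D.ν : F) P = u := by
  rcases D.surj_or_small (D.ν : F) with h | ⟨e, he0, hef, -, hy⟩
  · exact h u
  exfalso
  have h := D.ν_pow_eq_one (D.pow_pe D.ν.ne_zero hy)
  have h1 : D.p ^ e ≤ D.q := by rw [D.hqp]; exact Nat.pow_le_pow_right D.hp.pos hef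
  have h2 : 2 ≤ D.p ^ e := le_trans D.hp.two_le (Nat.le_self_pow (by omega) _)
  have h3 : 0 < (D.q - 2) * (D.p ^ e - 1) := Nat.mul_pos (by omega) (by omega)
  have h4 := Nat.le_of_dvd h3 h
  have h5 : (D.q - 2) * (D.p ^ e - 1) ≤ (D.q - 2) * (D.q + 1) := Nat.mul_le_mul_left _ (by omega)
  have h6 : (D.q - 2) * (D.q + 1) < (D.q - 1) * (D.q + 1) :=
    Nat.mul_lt_mul_of_pos_right (by omega) (by omega)
  rw [D.sq_sub_one] at h4
  omega

theorem gen_of_order (hf : 4 ≤ D.f) {y : F} (hy : y ≠ 0) (hm : ∀ m, y ^ m = 1 → D.q + 1 ∣ 3 * m)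
    (hσ : D.σ y ≠ y) (u : F) : ∃ P : ℤ[X], aeval y P = u := by
  rcases D.surj_or_small y with h | ⟨e, he0, hef, hdvd, hye⟩
  · exact h u
  exfalso
  have hne : e ≠ D.f := by
    rintro rfl
    exact hσ (by rw [D.σ_eq, D.hqp, hye])
  obtain ⟨k, hk⟩ := hdvd
  have hk3 : 3 ≤ k := by
    by_contra h
    interval_cases k <;> omega
  have he2 : e + 2 ≤ D.f := by
    have : e * 3 ≤ e * k := Nat.mul_le_mul_left _ hk3
    omega
  have h := hm _ (D.pow_pe hy hye)
  have h2 : 2 ≤ D.p ^ e := le_trans D.hp.two_le (Nat.le_self_pow (by omega) _)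
  have h4 := Nat.le_of_dvd (by omega) h
  have h5 : 4 * D.p ^ e ≤ D.q := by
    rw [D.hqp]
    calc 4 * D.p ^ e ≤ D.p ^ 2 * D.p ^ e := Nat.mul_le_mul_right _ (Nat.pow_le_pow_left D.hp.two_le 2)
      _ = D.p ^ (2 + e) := (pow_add _ _ _).symm
      _ ≤ D.p ^ D.f := Nat.pow_le_pow_right D.hp.pos (by omega)
  omega

theorem sixteen_le (hf : 4 ≤ D.f) : 16 ≤ D.q := by
  rw [D.hqp]
  calc 16 = 2 ^ 4 := by norm_num
    _ ≤ D.p ^ 4 := Nat.pow_le_pow_left D.hp.two_le 4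
    _ ≤ D.p ^ D.f := Nat.pow_le_pow_right D.hp.pos hf

theorem η_surj (hf : 4 ≤ D.f) (u : F) : ∃ P : ℤ[X], aeval ((D.ν : F) ^ (D.q - 1)) P = u := by
  have h16 := D.sixteen_le hf
  have hm : ∀ m, ((D.ν : F) ^ (D.q - 1)) ^ m = 1 → D.q + 1 ∣ 3 * m := by
    intro m h
    rw [← pow_mul] at h
    have := D.ν_pow_eq_one h
    rw [D.sq_sub_one, mul_left_comm] at this
    have h1 := Nat.dvd_of_mul_dvd_mul_left (by omega) this
    have h2 : D.q + 1 ∣ (D.q - 2) * m + 3 * m := by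
      rw [← add_mul]
      exact Dvd.dvd.mul_right (by rw [show D.q - 2 + 3 = D.q + 1 by omega]) m
    exact (Nat.dvd_add_right h1).1 h2
  refine D.gen_of_order hf (pow_ne_zero _ D.ν.ne_zero) hm (fun h => ?_) u
  have h1 := Nat.le_of_dvd (by omega) (hm _ (D.pow_q_sub_one_eq_one h (pow_ne_zero _ D.ν.ne_zero)))
  have h3 := hm _ (D.pow_q_sub_one_eq_one h (pow_ne_zero _ D.ν.ne_zero))
  have h4 : D.q + 1 ∣ 6 := by
    have h2 : D.q + 1 ∣ 3 * (D.q - 1) + 6 := ⟨3, by omega⟩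
    exact (Nat.dvd_add_right h3).1 h2
  have := Nat.le_of_dvd (by norm_num) h4
  omega

/-- The image of the torus in its action on the root group. -/
theorem exists_ν_pow (s : Fˣ) : ∃ n : ℕ, (D.ν : F) ^ n = (s : F) ^ 2 / D.σ s := by
  obtain ⟨n, rfl⟩ := D.exists_pow s
  exact ⟨n, by rw [D.ν_val, Units.val_pow_eq_pow_val, map_pow, div_pow, ← pow_mul, ← pow_mul, mul_comm]⟩

theorem exists_ν_pow_cube (j : ℕ) {r : F} (hr : D.σ r = r) (hr0 : r ≠ 0) :
    ∃ n : ℕ, (D.ν : F) ^ n = r * (D.ω : F) ^ (3 * j) := by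
  obtain ⟨n, hn⟩ := D.exists_ν_pow (Units.mk0 r hr0 * D.μ ^ j * D.ω ^ j)
  refine ⟨n, hn.trans ?_⟩
  have hs : D.σ (D.ω : F) ≠ 0 := (_root_.map_ne_zero _).2 D.ω.ne_zero
  have := D.ω.ne_zero
  simp only [Units.val_mul, Units.val_mk0, Units.val_pow_eq_pow_val, map_mul, map_pow, hr, D.σ_μ]
  rw [D.μ_val]
  field_simp
  ring

theorem exists_trick (hf : 4 ≤ D.f) : ∃ i k : ℕ, (D.ν : F) ^ k = 1 + (D.ν : F) ^ i ∧
    ∀ u, ∃ P : ℤ[X], aeval ((D.ν : F) ^ i) P = u := by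
  have h16 := D.sixteen_le hf
  have hsmall : ∀ n, 0 < n → n ≤ 6 → ¬ D.q + 1 ∣ n := fun n h0 h6 h => by
    have := Nat.le_of_dvd h0 h; omega
  set a : F := (D.ω : F) ^ 3 with ha
  set b : F := (D.ω : F) ^ 6 with hb
  have hab : b = a * a := by rw [ha, hb, ← pow_add]
  have ha0 : a ≠ 0 := pow_ne_zero _ D.ω.ne_zero
  have hσa : D.σ a ≠ a := D.σ_ne (hsmall 3 (by norm_num) (by norm_num))
  have hσb : D.σ b ≠ b := D.σ_ne (hsmall 6 (by norm_num) le_rfl)
  have hσa0 : D.σ a ≠ 0 := (_root_.map_ne_zero _).2 ha0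
  set Δ : F := a * D.σ b - b * D.σ a with hΔ
  have hΔ0 : Δ ≠ 0 := by
    rw [hΔ, hab, map_mul, show a * (D.σ a * D.σ a) - a * a * D.σ a = a * D.σ a * (D.σ a - a) by ring]
    exact mul_ne_zero (mul_ne_zero ha0 hσa0) (sub_ne_zero.2 hσa)
  have hσΔ : D.σ Δ = -Δ := by rw [hΔ, map_sub, map_mul, map_mul, D.σσ, D.σσ]; ring
  set r₁ : F := (D.σ b - b) / Δ with hr1
  set r₂ : F := (a - D.σ a) / Δ with hr2
  have hone : r₁ * a + r₂ * b = 1 := by
    rw [hr1, hr2, div_mul_eq_mul_div, div_mul_eq_mul_div, ← add_div, div_eq_one_iff_eq hΔ0, hΔ]; ring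
  have h1σ : D.σ (-r₁) = -r₁ := by
    rw [hr1, map_neg, map_div₀, map_sub, D.σσ, hσΔ, div_neg, ← neg_div, neg_sub]
  have h2σ : D.σ r₂ = r₂ := by
    rw [hr2, map_div₀, map_sub, D.σσ, hσΔ, div_neg, ← neg_div, neg_sub]
  have h10 : -r₁ ≠ 0 := neg_ne_zero.2 (div_ne_zero (sub_ne_zero.2 hσb) hΔ0)
  have h20 : r₂ ≠ 0 := div_ne_zero (sub_ne_zero.2 (Ne.symm hσa)) hΔ0
  obtain ⟨i, hi⟩ := D.exists_ν_pow_cube 1 h1σ h10
  obtain ⟨k, hk⟩ := D.exists_ν_pow_cube 2 h2σ h20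
  have hi' : (D.ν : F) ^ i = -r₁ * a := hi
  refine ⟨i, k, ?_, fun u => D.gen_of_order hf (pow_ne_zero _ D.ν.ne_zero) (fun m hm => ?_) ?_ u⟩
  · rw [hk, hi', show (D.ω : F) ^ (3 * 2) = b from rfl]
    linear_combination hone
  · rw [hi', mul_pow, ha, ← pow_mul] at hm
    have h := congrArg (· ^ (D.q - 1)) hm
    simp only [mul_pow, one_pow, ← pow_mul] at h
    rw [mul_comm m, pow_mul (-r₁), D.pow_q_sub_one_eq_one h1σ h10, one_pow, one_mul,
      D.ω_pow_val_eq_one, D.sq_sub_one, mul_comm (D.q - 1)] at h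
    exact Nat.dvd_of_mul_dvd_mul_right (by omega) h
  · rw [hi', map_mul, h1σ]
    exact fun h => hσa (mul_left_cancel₀ h10 h)

end UData

end Cfsg.Agent.Lib.BoundedPresentation.U3
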