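import Mathlib
import Cfsg.Prelude.Def_Classical
import Cfsg.Agent.Lib.BoundedPresentation.U3.Field
import Cfsg.Agent.Lib.Classical.UnitaryStandard
import Cfsg.Agent.Lib.Classical.UnitaryOrder

/-!
The special unitary group in three variables for the antidiagonal form: root elements, torus, Weyl element
and the Borel subgroup.
-/

set_option autoImplicit false

namespace Cfsg.Agent.Lib.BoundedPresentation.U3

open Matrix

variable {F : Type*} [Field F]

/-- The antidiagonal form. -/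
def formJ (σ : F →+* F) (u v : Fin 3 → F) : F := u 0 * σ (v 2) + u 1 * σ (v 1) + u 2 * σ (v 0)

/-- Its special unitary group. -/
def SUJ (σ : F →+* F) : Subgroup (Matrix.SpecialLinearGroup (Fin 3) F) :=
  Cfsg.preserving (Cfsg.slToMat 3 F) (formJ σ)

variable (σ : F →+* F)

theorem mem_SUJ {g : Matrix.SpecialLinearGroup (Fin 3) F} :
    g ∈ SUJ σ ↔ ∀ u v, formJ σ (g.1 *ᵥ u) (g.1 *ᵥ v) = formJ σ u v := Iff.rfl

/-- The condition on a root element. -/
def Cond (a b : F) : Prop := b + σ b + a * σ a = 0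

/-- The matrix of a root element. -/
def uMat (a b : F) : Matrix (Fin 3) (Fin 3) F := !![1, a, b; 0, 1, -σ a; 0, 0, 1]

/-- The matrix of a torus element. -/
def hMat (t : F) : Matrix (Fin 3) (Fin 3) F := !![t, 0, 0; 0, σ t / t, 0; 0, 0, (σ t)⁻¹]

/-- The matrix of the Weyl element. -/
def wMat : Matrix (Fin 3) (Fin 3) F := !![0, 0, 1; 0, -1, 0; 1, 0, 0]

variable {σ} (hσ : ∀ x, σ (σ x) = x)

/-- A root element. -/
def uEl (a b : F) (h : Cond σ a b) : SUJ σ :=
  ⟨⟨uMat σ a b, by rw [Matrix.det_fin_three]; simp [uMat]⟩, fun u v => by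
    show formJ σ (uMat σ a b *ᵥ u) (uMat σ a b *ᵥ v) = formJ σ u v
    have h' : b + σ b + a * σ a = 0 := h
    simp [formJ, uMat, Matrix.mulVec, dotProduct, Fin.sum_univ_three, hσ]
    linear_combination (u 2 * σ (v 2)) * h'⟩

/-- The torus. -/
def hEl : Fˣ →* SUJ σ where
  toFun t := ⟨⟨hMat σ t, by
    have := t.ne_zero
    have := (_root_.map_ne_zero σ).2 t.ne_zero
    rw [Matrix.det_fin_three]
    simp [hMat]
    field_simp⟩, fun u v => by
    have := t.ne_zero
    have := (_root_.map_ne_zero σ).2 t.ne_zero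
    show formJ σ (hMat σ t *ᵥ u) (hMat σ t *ᵥ v) = formJ σ u v
    simp [formJ, hMat, Matrix.mulVec, dotProduct, Fin.sum_univ_three, hσ]
    field_simp⟩
  map_one' := by
    refine Subtype.ext (Subtype.ext ?_)
    show hMat σ ((1 : Fˣ) : F) = 1
    ext i j; fin_cases i <;> fin_cases j <;> simp [hMat]
  map_mul' s t := by
    refine Subtype.ext (Subtype.ext ?_)
    show hMat σ ((s * t : Fˣ) : F) = hMat σ s * hMat σ t
    ext i j; fin_cases i <;> fin_cases j <;>
      simp [hMat, Matrix.mul_apply, Fin.sum_univ_three, div_mul_div_comm, mul_comm, _root_.mul_inv_rev]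

/-- The Weyl element. -/
def wEl : SUJ σ :=
  ⟨⟨wMat, by rw [Matrix.det_fin_three]; simp [wMat]⟩, fun u v => by
    show formJ σ (wMat *ᵥ u) (wMat *ᵥ v) = formJ σ u v
    simp [formJ, wMat, Matrix.mulVec, dotProduct, Fin.sum_univ_three]
    ring⟩

theorem cond_zero : Cond σ (0 : F) 0 := by simp [Cond]

include hσ in
theorem Cond.mul {a b c d : F} (h : Cond σ a b) (h' : Cond σ c d) : Cond σ (a + c) (b + d - a * σ c) := by
  simp only [Cond, map_add, map_sub, map_mul, hσ] at *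
  linear_combination h + h'

include hσ in
theorem Cond.inv {a b : F} (h : Cond σ a b) : Cond σ (-a) (σ b) := by
  simp only [Cond, map_neg, hσ] at *
  linear_combination h

include hσ in
theorem Cond.conj {a b : F} (h : Cond σ a b) (t : Fˣ) :
    Cond σ (a * ((t : F) ^ 2 / σ t)) (b * (t * σ t)) := by
  have := t.ne_zero
  have := (_root_.map_ne_zero σ).2 t.ne_zero
  simp only [Cond, map_mul, map_div₀, map_pow, hσ] at h ⊢
  field_simp
  linear_combination ((t : F) * σ t) * h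

include hσ in
theorem Cond.swapA {a b : F} (h : Cond σ a b) (hb : b ≠ 0) : Cond σ (-a / σ b) (1 / b) := by
  have := (_root_.map_ne_zero σ).2 hb
  simp only [Cond, map_neg, map_div₀, map_one, hσ] at h ⊢
  field_simp
  linear_combination h

include hσ in
theorem Cond.swapB {a b : F} (h : Cond σ a b) (hb : b ≠ 0) : Cond σ (-a / b) (1 / b) := by
  have := (_root_.map_ne_zero σ).2 hb
  simp only [Cond, map_neg, map_div₀, map_one, hσ] at h ⊢
  field_simp
  linear_combination h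

theorem Cond.a_eq_zero {a b : F} (h : Cond σ a b) (hb : b + σ b = 0) : a = 0 := by
  have h' : a * σ a = 0 := by
    have h0 : b + σ b + a * σ a = 0 := h
    linear_combination h0 - hb
  rcases mul_eq_zero.1 h' with h | h
  exacts [h, (_root_.map_eq_zero σ).1 h]

theorem uEl_eq {a b c d : F} (h : Cond σ a b) (h' : Cond σ c d) (ha : a = c) (hb : b = d) :
    uEl hσ a b h = uEl hσ c d h' := by
  subst ha hb; rfl

theorem uEl_inj {a b c d : F} (h : Cond σ a b) (h' : Cond σ c d) (e : uEl hσ a b h = uEl hσ c d h') :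
    a = c ∧ b = d := by
  have e' : uMat σ a b = uMat σ c d := congrArg (fun g : SUJ σ => g.1.1) e
  exact ⟨by simpa [uMat] using congrFun (congrFun e' 0) 1, by simpa [uMat] using congrFun (congrFun e' 0) 2⟩

theorem uEl_zero : uEl hσ 0 0 cond_zero = 1 := by
  refine Subtype.ext (Subtype.ext ?_)
  show uMat σ 0 0 = 1
  ext i j; fin_cases i <;> fin_cases j <;> simp [uMat]

theorem uEl_mul {a b c d : F} (h : Cond σ a b) (h' : Cond σ c d) :
    uEl hσ a b h * uEl hσ c d h' = uEl hσ (a + c) (b + d - a * σ c) (h.mul hσ h') := by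
  refine Subtype.ext (Subtype.ext ?_)
  show uMat σ a b * uMat σ c d = uMat σ (a + c) (b + d - a * σ c)
  ext i j; fin_cases i <;> fin_cases j <;>
    simp [uMat, Matrix.mul_apply, Fin.sum_univ_three] <;> ring

theorem uEl_inv {a b : F} (h : Cond σ a b) : (uEl hσ a b h)⁻¹ = uEl hσ (-a) (σ b) (h.inv hσ) := by
  refine inv_eq_of_mul_eq_one_right ?_
  rw [uEl_mul, ← uEl_zero hσ]
  refine uEl_eq hσ _ _ (add_neg_cancel a) ?_
  rw [map_neg]
  have h0 : b + σ b + a * σ a = 0 := h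
  linear_combination h0

theorem hEl_conj {a b : F} (h : Cond σ a b) (t : Fˣ) :
    hEl hσ t * uEl hσ a b h * (hEl hσ t)⁻¹ =
      uEl hσ (a * ((t : F) ^ 2 / σ t)) (b * (t * σ t)) (h.conj hσ t) := by
  rw [mul_inv_eq_iff_eq_mul]
  refine Subtype.ext (Subtype.ext ?_)
  show hMat σ t * uMat σ a b = uMat σ (a * ((t : F) ^ 2 / σ t)) (b * (t * σ t)) * hMat σ t
  have := t.ne_zero
  have := (_root_.map_ne_zero σ).2 t.ne_zero
  ext i j; fin_cases i <;> fin_cases j <;>
    simp [uMat, hMat, Matrix.mul_apply, Fin.sum_univ_three, hσ] <;> field_simp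

theorem wEl_sq : (wEl : SUJ σ) * wEl = 1 := by
  refine Subtype.ext (Subtype.ext ?_)
  show wMat * wMat = (1 : Matrix (Fin 3) (Fin 3) F)
  ext i j; fin_cases i <;> fin_cases j <;> simp [wMat, Matrix.mul_apply, Fin.sum_univ_three]

/-- The parameter of the conjugate of a torus element by the Weyl element. -/
def swapT (σ : F →+* F) : Fˣ →* Fˣ := ((Units.map σ.toMonoidHom).comp (MonoidHom.id Fˣ))⁻¹

theorem swapT_val (t : Fˣ) : (swapT σ t : F) = (σ t)⁻¹ := by simp [swapT]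

theorem wEl_hEl (t : Fˣ) : (wEl : SUJ σ) * hEl hσ t * wEl = hEl hσ (swapT σ t) := by
  refine Subtype.ext (Subtype.ext ?_)
  show wMat * hMat σ t * wMat = hMat σ (swapT σ t)
  rw [swapT_val]
  have := t.ne_zero
  have := (_root_.map_ne_zero σ).2 t.ne_zero
  ext i j; fin_cases i <;> fin_cases j <;>
    simp [wMat, hMat, Matrix.mul_apply, Fin.sum_univ_three, hσ] <;> field_simp

theorem decomp {a b : F} (h : Cond σ a b) (hb : b ≠ 0) :
    (wEl : SUJ σ) * uEl hσ a b h * wEl =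
      uEl hσ (-a / σ b) (1 / b) (h.swapA hσ hb) * hEl hσ (swapT σ (Units.mk0 b hb)) * wEl *
        uEl hσ (-a / b) (1 / b) (h.swapB hσ hb) := by
  refine Subtype.ext (Subtype.ext ?_)
  show wMat * uMat σ a b * wMat = uMat σ (-a / σ b) (1 / b) *
    hMat σ (swapT σ (Units.mk0 b hb)) * wMat * uMat σ (-a / b) (1 / b)
  rw [swapT_val, Units.val_mk0]
  have := (_root_.map_ne_zero σ).2 hb
  have h' : b + σ b + a * σ a = 0 := h
  ext i j; fin_cases i <;> fin_cases j <;>
    simp [wMat, uMat, hMat, Matrix.mul_apply, Fin.sum_univ_three, hσ] <;> field_simp <;>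
    first | ring1 | linear_combination h' | linear_combination -h'

/-- The Borel subgroup. -/
def borel : Subgroup (SUJ σ) where
  carrier := {g | ∃ a b, ∃ h : Cond σ a b, ∃ t, g = uEl hσ a b h * hEl hσ t}
  one_mem' := ⟨0, 0, cond_zero, 1, by rw [uEl_zero, map_one, one_mul]⟩
  mul_mem' := by
    rintro _ _ ⟨a, b, h, t, rfl⟩ ⟨c, d, h', s, rfl⟩
    refine ⟨_, _, h.mul hσ (h'.conj hσ t), t * s, ?_⟩
    rw [← uEl_mul hσ h (h'.conj hσ t), ← hEl_conj hσ h' t, map_mul]
    group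
  inv_mem' := by
    rintro _ ⟨a, b, h, t, rfl⟩
    refine ⟨_, _, (h.inv hσ).conj hσ t⁻¹, t⁻¹, ?_⟩
    rw [← hEl_conj hσ (h.inv hσ), ← uEl_inv hσ h, map_inv, inv_inv, _root_.mul_inv_rev]
    group

/-- A root element in the Borel subgroup. -/
def uB (a b : F) (h : Cond σ a b) : borel hσ := ⟨uEl hσ a b h, a, b, h, 1, by rw [map_one, mul_one]⟩

/-- The torus in the Borel subgroup. -/
def hB : Fˣ →* borel hσ :=
  (hEl hσ).codRestrict (borel hσ) fun t => ⟨0, 0, cond_zero, t, by rw [uEl_zero, one_mul]⟩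

@[simp] theorem coe_uB (a b : F) (h : Cond σ a b) : ((uB hσ a b h : borel hσ) : SUJ σ) = uEl hσ a b h := rfl
@[simp] theorem coe_hB (t : Fˣ) : ((hB hσ t : borel hσ) : SUJ σ) = hEl hσ t := rfl

theorem uB_eq {a b c d : F} (h : Cond σ a b) (h' : Cond σ c d) (ha : a = c) (hb : b = d) :
    uB hσ a b h = uB hσ c d h' := Subtype.ext (uEl_eq hσ h h' ha hb)

theorem uB_zero : uB hσ 0 0 cond_zero = 1 := Subtype.ext (uEl_zero hσ)

theorem uB_mul {a b c d : F} (h : Cond σ a b) (h' : Cond σ c d) :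
    uB hσ a b h * uB hσ c d h' = uB hσ (a + c) (b + d - a * σ c) (h.mul hσ h') :=
  Subtype.ext (uEl_mul hσ h h')

theorem uB_inv {a b : F} (h : Cond σ a b) : (uB hσ a b h)⁻¹ = uB hσ (-a) (σ b) (h.inv hσ) :=
  Subtype.ext (uEl_inv hσ h)

theorem hB_conj {a b : F} (h : Cond σ a b) (t : Fˣ) :
    hB hσ t * uB hσ a b h * (hB hσ t)⁻¹ =
      uB hσ (a * ((t : F) ^ 2 / σ t)) (b * (t * σ t)) (h.conj hσ t) :=
  Subtype.ext (hEl_conj hσ h t)

theorem exists_uB_hB (g : borel hσ) : ∃ a b, ∃ h : Cond σ a b, ∃ t, g = uB hσ a b h * hB hσ t := by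
  obtain ⟨a, b, h, t, e⟩ := g.2
  exact ⟨a, b, h, t, Subtype.ext e⟩

theorem uB_hB_inj {a b c d : F} (h : Cond σ a b) (h' : Cond σ c d) {t s : Fˣ}
    (e : uB hσ a b h * hB hσ t = uB hσ c d h' * hB hσ s) : a = c ∧ b = d ∧ t = s := by
  have e' : uMat σ a b * hMat σ t = uMat σ c d * hMat σ s :=
    congrArg (fun g : borel hσ => g.1.1.1) e
  have hts : t = s := by
    have := congrFun (congrFun e' 0) 0
    exact Units.ext (by simpa [uMat, hMat, Matrix.mul_apply, Fin.sum_univ_three] using this)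
  subst hts
  exact ⟨(uEl_inj hσ h h' (mul_right_cancel (congrArg Subtype.val e))).1,
    (uEl_inj hσ h h' (mul_right_cancel (congrArg Subtype.val e))).2, rfl⟩

theorem eq_one_of_conj_mem {a b : F} (h : Cond σ a b)
    (hm : (wEl : SUJ σ) * uEl hσ a b h * wEl ∈ borel hσ) : a = 0 ∧ b = 0 := by
  obtain ⟨c, d, h', t, e⟩ := hm
  have e' : wMat * uMat σ a b * wMat = uMat σ c d * hMat σ t := congrArg (fun g : SUJ σ => g.1.1) e
  have h1 := congrFun (congrFun e' 1) 0
  have h2 := congrFun (congrFun e' 2) 0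
  simp [wMat, uMat, hMat, Matrix.mul_apply, Fin.sum_univ_three] at h1 h2
  exact ⟨h1, h2⟩

section Transfer

variable [Fintype F]

theorem exists_equiv {q : ℕ} (hF : Fintype.card F = q ^ 2) {τ : F →+* F} (hτ : ∀ x, τ x = x ^ q) :
    Nonempty (SUJ τ ≃* ↥(Cfsg.SU 3 F q)) := by
  classical
  obtain ⟨e, he⟩ := Classical.exists_split hF 1
  have hH : ∀ x, Forms.qPowHom hF x = τ x := fun x => by rw [Forms.qPowHom_apply, hτ]
  let c : (Fin 3 → F) →ₗ[F] F × F × (Fin 1 → F) :=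
    { toFun := fun u => (u 0, u 2, fun _ => u 1)
      map_add' := fun u v => rfl
      map_smul' := fun r u => rfl }
  have hc : Function.Injective c := fun u v h => by
    have h0 : u 0 = v 0 := congrArg Prod.fst h
    have h2 : u 2 = v 2 := congrArg (fun p => p.2.1) h
    have h1 : u 1 = v 1 := congrArg (fun p => p.2.2 0) h
    funext i; fin_cases i <;> assumption
  let L : (Fin 3 → F) →ₗ[F] (Fin 3 → F) := e.toLinearMap.comp c
  let P : Matrix (Fin 3) (Fin 3) F := LinearMap.toMatrix' L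
  have hPv : ∀ u, P *ᵥ u = L u := fun u => LinearMap.toMatrix'_mulVec L u
  have hPf : ∀ u v, Cfsg.hermForm 3 F q (P *ᵥ u) (P *ᵥ v) = formJ τ u v := by
    intro u v
    rw [hPv, hPv]
    refine (he (c u) (c v)).trans ?_
    simp [Classical.uExt, formJ, c, Cfsg.hermForm, hH, hτ]
    ring
  have hPu : IsUnit P.det := by
    rw [← Matrix.isUnit_iff_isUnit_det, ← Matrix.mulVec_injective_iff_isUnit]
    intro u v h
    rw [hPv, hPv] at h
    exact hc (e.injective h)
  have hPP : P * P⁻¹ = 1 := Matrix.mul_nonsing_inv _ hPu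
  have hP'P : P⁻¹ * P = 1 := Matrix.nonsing_inv_mul _ hPu
  have hcancel : ∀ w, P *ᵥ (P⁻¹ *ᵥ w) = w := fun w => by rw [Matrix.mulVec_mulVec, hPP, Matrix.one_mulVec]
  have hfwd : ∀ g : SUJ τ, ∀ u v,
      Cfsg.hermForm 3 F q ((P * g.1.1 * P⁻¹) *ᵥ u) ((P * g.1.1 * P⁻¹) *ᵥ v) = Cfsg.hermForm 3 F q u v := by
    intro g u v
    rw [← Matrix.mulVec_mulVec, ← Matrix.mulVec_mulVec, ← Matrix.mulVec_mulVec, ← Matrix.mulVec_mulVec, hPf]
    refine ((mem_SUJ τ).1 g.2 _ _).trans ?_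
    rw [← hPf, hcancel, hcancel]
  have hbwd : ∀ g : Cfsg.SU 3 F q, ∀ u v,
      formJ τ ((P⁻¹ * g.1.1 * P) *ᵥ u) ((P⁻¹ * g.1.1 * P) *ᵥ v) = formJ τ u v := by
    intro g u v
    rw [← hPf, ← Matrix.mulVec_mulVec, ← Matrix.mulVec_mulVec, ← Matrix.mulVec_mulVec, ← Matrix.mulVec_mulVec,
      hcancel, hcancel, ← hPf u v]
    exact g.2 _ _
  refine ⟨{
    toFun := fun g => ⟨⟨P * g.1.1 * P⁻¹, by
      rw [Matrix.det_mul_comm, ← mul_assoc, hP'P, one_mul]; exact g.1.2⟩, hfwd g⟩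
    invFun := fun g => ⟨⟨P⁻¹ * g.1.1 * P, by
      rw [Matrix.det_mul_comm, ← mul_assoc, hPP, one_mul]; exact g.1.2⟩, hbwd g⟩
    left_inv := fun g => Subtype.ext (Subtype.ext ?_)
    right_inv := fun g => Subtype.ext (Subtype.ext ?_)
    map_mul' := fun g g' => Subtype.ext (Subtype.ext ?_) }⟩
  · show P⁻¹ * (P * g.1.1 * P⁻¹) * P = g.1.1
    rw [← mul_assoc, ← mul_assoc, hP'P, one_mul, mul_assoc, hP'P, mul_one]
  · show P * (P⁻¹ * g.1.1 * P) * P⁻¹ = g.1.1
    rw [← mul_assoc, ← mul_assoc, hPP, one_mul, mul_assoc, hPP, mul_one]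
  · show P * (g.1.1 * g'.1.1) * P⁻¹ = P * g.1.1 * P⁻¹ * (P * g'.1.1 * P⁻¹)
    simp only [mul_assoc]
    rw [← mul_assoc P⁻¹ P, hP'P, one_mul]

end Transfer

namespace UData

variable [Fintype F] (D : UData F)

/-- The group of the datum. -/
abbrev G₀ : Subgroup (Matrix.SpecialLinearGroup (Fin 3) F) := SUJ D.σ

/-- Its Borel subgroup. -/
abbrev B₀ : Subgroup D.G₀ := borel D.σσ

theorem natCard_G₀ : Nat.card D.G₀ = D.q ^ 3 * ((D.q ^ 2 - 1) * (D.q ^ 3 + 1)) := by
  obtain ⟨e⟩ := exists_equiv D.card D.σ_eq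
  rw [Nat.card_congr e.toEquiv]
  have h := Classical.succ_mul_natCard_SU (F := F) D.card 3 (by norm_num)
  rw [Classical.natCard_GU D.card 3] at h
  simp [Finset.prod_range_succ, Nat.even_iff] at h
  refine Nat.eq_of_mul_eq_mul_left (show 0 < D.q + 1 by omega) (h.trans ?_)
  ring

/-- An element of trace one. -/
theorem exists_trace_ne : ∃ e : F, e + D.σ e ≠ 0 := by
  refine ⟨D.θ * (D.ω : F), ?_⟩
  rw [map_mul, D.θ_σ, show D.θ * (D.ω : F) + -D.θ * D.σ D.ω = D.θ * ((D.ω : F) - D.σ D.ω) by ring]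
  exact mul_ne_zero D.θ_ne (sub_ne_zero.2 (Ne.symm D.σ_ω_ne))

theorem exists_cond (a : F) : ∃ b, Cond D.σ a b := by
  obtain ⟨e, he⟩ := D.exists_trace_ne
  refine ⟨-(a * D.σ a) * e / (e + D.σ e), ?_⟩
  simp only [Cond, map_mul, map_div₀, map_neg, map_add, D.σσ]
  rw [add_comm (D.σ e) e]
  field_simp
  ring

/-- A chosen second coordinate. -/
noncomputable def b₀ (a : F) : F := (D.exists_cond a).choose

theorem cond_b₀ (a : F) : Cond D.σ a (D.b₀ a) := (D.exists_cond a).choose_spec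

theorem cond_θ (c : D.K) : Cond D.σ 0 (D.θ * (c : F)) := by
  simp [Cond, map_mul, D.θ_σ, D.mem_K.1 c.2]

theorem div_θ_mem {b : F} (h : b + D.σ b = 0) : b / D.θ ∈ D.K := by
  rw [mem_K, map_div₀, D.θ_σ, eq_neg_of_add_eq_zero_right h, neg_div_neg_eq]

/-- The root elements are pairs of a field element and an element of the fixed field. -/
noncomputable def pairEquiv : F × D.K ≃ {p : F × F // Cond D.σ p.1 p.2} where
  toFun x := ⟨(x.1, D.b₀ x.1 + D.θ * (x.2 : F)), by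
    have h1 : D.b₀ x.1 + D.σ (D.b₀ x.1) + x.1 * D.σ x.1 = 0 := D.cond_b₀ x.1
    simp only [Cond, map_add, map_mul, D.θ_σ, D.mem_K.1 x.2.2]
    linear_combination h1⟩
  invFun p := (p.1.1, ⟨(p.1.2 - D.b₀ p.1.1) / D.θ, D.div_θ_mem (by
    have h1 : D.b₀ p.1.1 + D.σ (D.b₀ p.1.1) + p.1.1 * D.σ p.1.1 = 0 := D.cond_b₀ p.1.1
    have h2 : p.1.2 + D.σ p.1.2 + p.1.1 * D.σ p.1.1 = 0 := p.2
    rw [map_sub]; linear_combination h2 - h1)⟩)
  left_inv x := Prod.ext rfl (Subtype.ext (by simp [D.θ_ne]))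
  right_inv p := Subtype.ext (Prod.ext rfl (by have := D.θ_ne; field_simp; ring))

theorem natCard_pairs : Nat.card {p : F × F // Cond D.σ p.1 p.2} = D.q ^ 3 := by
  rw [← Nat.card_congr D.pairEquiv, Nat.card_prod, D.natCard_K, Nat.card_eq_fintype_card, D.card]
  ring

theorem natCard_B₀ : Nat.card D.B₀ = D.q ^ 3 * (D.q ^ 2 - 1) := by
  let φ : {p : F × F // Cond D.σ p.1 p.2} × Fˣ → D.B₀ := fun x => uB D.σσ _ _ x.1.2 * hB D.σσ x.2
  have hφ : Function.Bijective φ := by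
    refine ⟨fun x y e => ?_, fun g => ?_⟩
    · obtain ⟨h1, h2, h3⟩ := uB_hB_inj D.σσ x.1.2 y.1.2 e
      exact Prod.ext (Subtype.ext (Prod.ext h1 h2)) h3
    · obtain ⟨a, b, h, t, rfl⟩ := exists_uB_hB D.σσ g
      exact ⟨(⟨(a, b), h⟩, t), rfl⟩
  rw [← Nat.card_eq_of_bijective φ hφ, Nat.card_prod, D.natCard_pairs, Nat.card_units,
    Nat.card_eq_fintype_card, D.card]

end UData

end Cfsg.Agent.Lib.BoundedPresentation.U3
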