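import Mathlib
import Cfsg.Agent.Lib.BoundedPresentation.U3.Model
import Cfsg.Agent.Lib.BoundedPresentation.U3.Generic

/-!
The Borel subgroup of `SU₃(q)` has a presentation on three named elements with at most eighteen relators.
-/

set_option autoImplicit false
set_option linter.style.haveILetI false

namespace Cfsg.Agent.Lib.BoundedPresentation.U3

open Polynomial Cfsg.Agent.Lib.SL2.ShortPres
open scoped commutatorElement

namespace UData

variable {F : Type*} [Field F] [Fintype F] (D : UData F)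

/-- The base trace class. -/
def e₁ : F := D.θ * (D.ω : F)

theorem e₁_trace : D.e₁ + D.σ D.e₁ ≠ 0 := by
  rw [e₁, map_mul, D.θ_σ, show D.θ * (D.ω : F) + -D.θ * D.σ D.ω = D.θ * ((D.ω : F) - D.σ D.ω) by ring]
  exact mul_ne_zero D.θ_ne (sub_ne_zero.2 (Ne.symm D.σ_ω_ne))

theorem e₁_ne : D.e₁ ≠ 0 := mul_ne_zero D.θ_ne D.ω.ne_zero

/-- The second coordinate in the base class over `a`. -/
def bOf (a : F) : F := -(a * D.σ a) / (D.e₁ + D.σ D.e₁) * D.e₁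

theorem cond_bOf (a : F) : Cond D.σ a (D.bOf a) := by
  have := D.e₁_trace
  simp only [Cond, bOf, map_mul, map_div₀, map_neg, map_add, D.σσ]
  rw [add_comm (D.σ D.e₁) D.e₁]
  field_simp
  ring

theorem bOf_ne {a : F} (ha : a ≠ 0) : D.bOf a ≠ 0 := by
  have h0 : a * D.σ a ≠ 0 := mul_ne_zero ha ((_root_.map_ne_zero _).2 ha)
  exact mul_ne_zero (div_ne_zero (neg_ne_zero.2 h0) D.e₁_trace) D.e₁_ne

/-- The seed. -/
def xB : D.B₀ := uB D.σσ 1 (D.bOf 1) (D.cond_bOf 1)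

/-- The central root group. -/
def ζ : Multiplicative D.K →* D.B₀ :=
  MonoidHom.mk' (fun c => uB D.σσ 0 (D.θ * (c.toAdd : F)) (D.cond_θ c.toAdd)) fun c d => by
    rw [uB_mul]
    refine uB_eq _ _ _ (add_zero 0).symm ?_
    show D.θ * ((c.toAdd + d.toAdd : D.K) : F) = _
    push_cast; ring

/-- The central root element. -/
def zB : D.B₀ := D.ζ (Multiplicative.ofAdd 1)

/-- The torus generator. -/
def hGen : D.B₀ := hB D.σσ D.ω

theorem hGen_conj {a b : F} (h : Cond D.σ a b) :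
    D.hGen * uB D.σσ a b h * D.hGen⁻¹ =
      uB D.σσ (a * ((D.ω : F) ^ 2 / D.σ D.ω)) (b * (D.ω * D.σ D.ω)) (h.conj D.σσ D.ω) :=
  hB_conj D.σσ h D.ω

theorem ζ_add (s t : D.K) : D.ζ (Multiplicative.ofAdd s) * D.ζ (Multiplicative.ofAdd t) =
    D.ζ (Multiplicative.ofAdd (s + t)) := (map_mul D.ζ _ _).symm

theorem hGen_ζ (u : D.K) : D.hGen * D.ζ (Multiplicative.ofAdd u) * D.hGen⁻¹ =
    D.ζ (Multiplicative.ofAdd (D.μK * u)) := by
  refine (D.hGen_conj (D.cond_θ u)).trans (uB_eq _ _ _ (zero_mul _) ?_)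
  show D.θ * (u : F) * _ = D.θ * ((D.μK * u : D.K) : F)
  show D.θ * (u : F) * _ = D.θ * ((D.μ : F) * (u : F))
  rw [D.μ_val]; ring

theorem ζ_mem_zc (c : D.K) : D.ζ (Multiplicative.ofAdd c) ∈ zc D.hGen D.zB := by
  obtain ⟨P, rfl⟩ := D.μK_surj c
  rw [← wd_eq D.hGen D.zB D.μK (fun u => D.ζ (Multiplicative.ofAdd u)) D.ζ_add rfl D.hGen_ζ P]
  exact wd_mem_zc _ _ _

theorem exists_wd_of_mem {g : D.B₀} (hg : g ∈ zc D.hGen D.zB) : ∃ P : ℤ[X], wd D.hGen D.zB P = g := by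
  have hle : zc D.hGen D.zB ≤ D.ζ.range := by
    rw [zc, Subgroup.closure_le]
    rintro _ ⟨j, rfl⟩
    exact ⟨_, (cj_eq (X := fun u => D.ζ (Multiplicative.ofAdd u)) (x := D.zB) rfl D.hGen_ζ j).symm⟩
  obtain ⟨c, rfl⟩ := hle hg
  obtain ⟨P, hP⟩ := D.μK_surj c.toAdd
  exact ⟨P, by rw [wd_eq D.hGen D.zB D.μK (fun u => D.ζ (Multiplicative.ofAdd u)) D.ζ_add rfl D.hGen_ζ, hP]; rfl⟩

theorem mem_zc_of_zero {b : F} (h : Cond D.σ 0 b) : uB D.σσ 0 b h ∈ zc D.hGen D.zB := by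
  have hb : b + D.σ b = 0 := by simpa [Cond] using h
  convert D.ζ_mem_zc ⟨b / D.θ, D.div_θ_mem hb⟩ using 1
  refine uB_eq _ _ _ rfl ?_
  show b = D.θ * (b / D.θ)
  rw [mul_div_cancel₀ _ D.θ_ne]

theorem hzc_model (a b : ℕ) : Commute (cj D.hGen D.zB a) (cj D.hGen D.zB b) := by
  rw [cj_eq (X := fun u => D.ζ (Multiplicative.ofAdd u)) (x := D.zB) rfl D.hGen_ζ,
    cj_eq (X := fun u => D.ζ (Multiplicative.ofAdd u)) (x := D.zB) rfl D.hGen_ζ]
  exact (Commute.all _ _).map D.ζ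

theorem commute_ζ {a b : F} (h : Cond D.σ a b) (c : D.K) :
    Commute (uB D.σσ a b h) (D.ζ (Multiplicative.ofAdd c)) := by
  show uB D.σσ a b h * uB D.σσ 0 (D.θ * (c : F)) _ = uB D.σσ 0 (D.θ * (c : F)) _ * uB D.σσ a b h
  rw [uB_mul, uB_mul]
  exact uB_eq _ _ _ (by ring) (by rw [map_zero]; ring)

theorem hcent_model (n : ℕ) : Commute D.xB (cj D.hGen D.zB n) := by
  rw [cj_eq (X := fun u => D.ζ (Multiplicative.ofAdd u)) (x := D.zB) rfl D.hGen_ζ]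
  exact D.commute_ζ _ _

theorem hGen_pow_conj (n : ℕ) {a b : F} (h : Cond D.σ a b) :
    ∃ b', ∃ h' : Cond D.σ ((D.ν : F) ^ n * a) b',
      D.hGen ^ n * uB D.σσ a b h * (D.hGen ^ n)⁻¹ = uB D.σσ ((D.ν : F) ^ n * a) b' h' := by
  induction n with
  | zero => exact ⟨b, by simpa using h, by simpa using uB_eq D.σσ h (by simpa using h) (by simp) rfl⟩
  | succ n ih =>
    obtain ⟨b', h', e⟩ := ih
    have ha : (D.ν : F) ^ n * a * ((D.ω : F) ^ 2 / D.σ D.ω) = (D.ν : F) ^ (n + 1) * a := by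
      rw [pow_succ (D.ν : F) n, D.ν_val]; ring
    have hc := ha ▸ h'.conj D.σσ D.ω
    refine ⟨_, hc, ?_⟩
    rw [pow_succ' D.hGen, show D.hGen * D.hGen ^ n * uB D.σσ a b h * (D.hGen * D.hGen ^ n)⁻¹ =
      D.hGen * (D.hGen ^ n * uB D.σσ a b h * (D.hGen ^ n)⁻¹) * D.hGen⁻¹ by group, e, D.hGen_conj]
    exact uB_eq _ _ _ ha rfl

theorem hB_mem {H : Subgroup D.B₀} (hh : D.hGen ∈ H) (t : Fˣ) : hB D.σσ t ∈ H := by
  obtain ⟨n, rfl⟩ := D.exists_pow t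
  rw [map_pow]
  exact pow_mem hh n

theorem closure_gens (hq : 3 ≤ D.q) :
    Subgroup.closure ({D.xB, D.zB, D.hGen} : Set D.B₀) = ⊤ := by
  set H := Subgroup.closure ({D.xB, D.zB, D.hGen} : Set D.B₀)
  have hx : D.xB ∈ H := Subgroup.subset_closure (Or.inl rfl)
  have hz : D.zB ∈ H := Subgroup.subset_closure (Or.inr (Or.inl rfl))
  have hh : D.hGen ∈ H := Subgroup.subset_closure (Or.inr (Or.inr rfl))
  have hzc : zc D.hGen D.zB ≤ H := by
    rw [zc, Subgroup.closure_le]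
    rintro _ ⟨j, rfl⟩
    exact mul_mem (mul_mem (pow_mem hh j) hz) (inv_mem (pow_mem hh j))
  let A : AddSubgroup F :=
    { carrier := {a | ∃ b, ∃ h : Cond D.σ a b, uB D.σσ a b h ∈ H}
      zero_mem' := ⟨0, cond_zero, by rw [uB_zero]; exact one_mem _⟩
      add_mem' := by
        rintro a c ⟨b, h, hm⟩ ⟨d, h', hm'⟩
        exact ⟨_, h.mul D.σσ h', by rw [← uB_mul D.σσ h h']; exact mul_mem hm hm'⟩
      neg_mem' := by
        rintro a ⟨b, h, hm⟩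
        exact ⟨_, h.inv D.σσ, by rw [← uB_inv D.σσ h]; exact inv_mem hm⟩ }
  have hA : ∀ a, a ∈ A := by
    intro a
    obtain ⟨P, rfl⟩ := D.ν_surj hq a
    induction P using Polynomial.induction_on' with
    | add P Q hP hQ => rw [map_add]; exact add_mem hP hQ
    | monomial j c =>
      rw [aeval_monomial, algebraMap_int_eq, eq_intCast, ← zsmul_eq_mul]
      refine zsmul_mem ?_ c
      obtain ⟨b', h', e⟩ := D.hGen_pow_conj j (D.cond_bOf 1)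
      obtain ⟨b'', h'', e'⟩ : ∃ b'', ∃ h'' : Cond D.σ ((D.ν : F) ^ j) b'', uB D.σσ ((D.ν : F) ^ j) b'' h'' =
          uB D.σσ ((D.ν : F) ^ j * 1) b' h' :=
        ⟨b', by rwa [← mul_one ((D.ν : F) ^ j)], uB_eq _ _ _ (mul_one _).symm rfl⟩
      exact ⟨b'', h'', by rw [e', ← e]; exact mul_mem (mul_mem (pow_mem hh j) hx) (inv_mem (pow_mem hh j))⟩
  rw [eq_top_iff]
  intro g _
  obtain ⟨a, b, h, t, rfl⟩ := exists_uB_hB D.σσ g
  refine mul_mem ?_ (D.hB_mem hh t)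
  obtain ⟨b', h', hm⟩ := hA a
  have h0 : Cond D.σ 0 (D.σ b' + b - -a * D.σ a) := by
    simpa using (h'.inv D.σσ).mul D.σσ h
  have e : uB D.σσ a b' h' * uB D.σσ 0 _ h0 = uB D.σσ a b h := by
    rw [uB_mul]
    refine uB_eq _ _ _ (add_zero a) ?_
    have h1 : b' + D.σ b' + a * D.σ a = 0 := h'
    rw [map_zero]
    linear_combination h1
  rw [← e]
  exact mul_mem hm (hzc (D.mem_zc_of_zero h0))

theorem hGen_order : D.hGen ^ (D.q ^ 2 - 1) = 1 := by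
  rw [hGen, ← map_pow, D.ω_pow_eq_one.2 (dvd_refl _), map_one]

theorem N_pos : 0 < D.q ^ 2 - 1 := by
  have := D.two_le_q
  have : 2 ^ 2 ≤ D.q ^ 2 := Nat.pow_le_pow_left this 2
  omega

theorem zc_normal₀ (hq : 3 ≤ D.q) : (zc D.hGen D.zB).Normal :=
  zc_normal D.N_pos D.hGen_order (D.closure_gens hq) D.hzc_model D.hcent_model

theorem exists_quotHom (_hN : (zc D.hGen D.zB).Normal) :
    ∃ X : F → D.B₀ ⧸ zc D.hGen D.zB, (∀ s t, X s * X t = X (s + t)) ∧ X 1 = (D.xB : D.B₀ ⧸ zc D.hGen D.zB) ∧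
      ∀ (i : ℕ) (u : F), (D.hGen : D.B₀ ⧸ zc D.hGen D.zB) ^ i * X u * ((D.hGen : D.B₀ ⧸ zc D.hGen D.zB) ^ i)⁻¹ =
        X ((D.ν : F) ^ i * u) := by
  have key : ∀ {a b b' : F} (h : Cond D.σ a b) (h' : Cond D.σ a b'),
      (uB D.σσ a b h : D.B₀ ⧸ zc D.hGen D.zB) = (uB D.σσ a b' h' : D.B₀ ⧸ zc D.hGen D.zB) := by
    intro a b b' h h'
    rw [QuotientGroup.eq, uB_inv, uB_mul]
    have h0 : Cond D.σ 0 (D.σ b + b' - -a * D.σ a) := by simpa using (h.inv D.σσ).mul D.σσ h'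
    convert D.mem_zc_of_zero h0 using 1
    exact uB_eq _ _ _ (neg_add_cancel a) rfl
  refine ⟨fun a => (uB D.σσ a (D.b₀ a) (D.cond_b₀ a) : D.B₀ ⧸ zc D.hGen D.zB), fun s t => ?_, key _ _, fun i u => ?_⟩
  · show (uB D.σσ s _ _ : D.B₀ ⧸ zc D.hGen D.zB) * (uB D.σσ t _ _ : D.B₀ ⧸ zc D.hGen D.zB) = _
    rw [← QuotientGroup.mk_mul, uB_mul]
    exact key _ _
  · obtain ⟨b', h', e⟩ := D.hGen_pow_conj i (D.cond_b₀ u)
    show (D.hGen : D.B₀ ⧸ zc D.hGen D.zB) ^ i * (uB D.σσ u _ _ : D.B₀ ⧸ zc D.hGen D.zB) * _ = _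
    rw [← QuotientGroup.mk_pow, ← QuotientGroup.mk_inv, ← QuotientGroup.mk_mul, ← QuotientGroup.mk_mul, e]
    exact key _ _

/-- The named elements. -/
def gen3 : Fin 3 → D.B₀ := ![D.xB, D.zB, D.hGen]

/-- A relator pushing a word into the central root group. -/
theorem exists_zrel {r : FreeGroup (Fin 3)} (hr : FreeGroup.lift D.gen3 r ∈ zc D.hGen D.zB) :
    ∃ s : FreeGroup (Fin 3), FreeGroup.lift D.gen3 s = 1 ∧ ∀ {G : Type _} [Group G] (y : Fin 3 → G),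
      FreeGroup.lift y s = 1 → FreeGroup.lift y r ∈ zc (y 2) (y 1) := by
  obtain ⟨P, hP⟩ := D.exists_wd_of_mem hr
  refine ⟨r * (wd (FreeGroup.of 2) (FreeGroup.of 1) P)⁻¹, ?_, fun y hy => ?_⟩
  · rw [map_mul, map_inv, map_wd, FreeGroup.lift_apply_of, FreeGroup.lift_apply_of, mul_inv_eq_one, ← hP]
    rfl
  · rw [map_mul, map_inv, map_wd, FreeGroup.lift_apply_of, FreeGroup.lift_apply_of, mul_inv_eq_one] at hy
    rw [hy]
    exact wd_mem_zc _ _ _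

end UData

end Cfsg.Agent.Lib.BoundedPresentation.U3
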