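import Mathlib
import Cfsg.Agent.Lib.BoundedPresentation.U3.Borel

/-!
The relators of the Borel subgroup: lists for small fields, tricks for large ones.
-/

set_option autoImplicit false
set_option linter.style.haveILetI false

namespace Cfsg.Agent.Lib.BoundedPresentation.U3

open Polynomial Cfsg.Agent.Lib.SL2.ShortPres
open scoped commutatorElement

universe u

/-- The root element letter. -/
abbrev xg : FreeGroup (Fin 3) := FreeGroup.of 0
/-- The central root element letter. -/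
abbrev zg : FreeGroup (Fin 3) := FreeGroup.of 1
/-- The torus letter. -/
abbrev hg : FreeGroup (Fin 3) := FreeGroup.of 2

theorem commute_of_lift {G : Type*} [Group G] {y : Fin 3 → G} {a b : FreeGroup (Fin 3)}
    (h : FreeGroup.lift y ⁅a, b⁆ = 1) : Commute (FreeGroup.lift y a) (FreeGroup.lift y b) := by
  rw [map_commutatorElement, commutatorElement_eq_one_iff_mul_comm] at h
  exact h

theorem lift_comm_eq_one {G : Type*} [Group G] {y : Fin 3 → G} {a b : FreeGroup (Fin 3)}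
    (h : Commute (FreeGroup.lift y a) (FreeGroup.lift y b)) : FreeGroup.lift y ⁅a, b⁆ = 1 := by
  rw [map_commutatorElement, commutatorElement_eq_one_iff_mul_comm]
  exact h

namespace UData

variable {F : Type u} [Field F] [Fintype F] (D : UData F)

theorem gen3_zero : D.gen3 0 = D.xB := rfl
theorem gen3_one : D.gen3 1 = D.zB := rfl
theorem gen3_two : D.gen3 2 = D.hGen := rfl

/-- What the relators of one case have to give. -/
def Derives (i : ℕ) (m : ℤ[X]) (mx : ℤ[X]) (R : Finset (FreeGroup (Fin 3))) : Prop :=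
  ∀ (G : Type u) [Group G] (y : Fin 3 → G), (∀ r ∈ R, FreeGroup.lift y r = 1) →
    Subgroup.closure (Set.range y) = ⊤ → y 2 ^ (D.q ^ 2 - 1) = 1 →
    y 1 ^ D.p = 1 → wd (y 2) (y 1) m = 1 → wd (y 2 ^ i) (y 0) mx ∈ zc (y 2) (y 1) →
    (∀ a b, Commute (cj (y 2) (y 1) a) (cj (y 2) (y 1) b)) ∧ (∀ a, Commute (y 0) (cj (y 2) (y 1) a)) ∧
      ∀ a b, ⁅cj (y 2 ^ i) (y 0) a, cj (y 2 ^ i) (y 0) b⁆ ∈ zc (y 2) (y 1)

theorem range_eq {G : Type*} (y : Fin 3 → G) : Set.range y = {y 0, y 1, y 2} := by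
  ext w
  simp [Set.mem_range, Fin.exists_fin_succ, eq_comm]

theorem closure_gen3 (hq : 3 ≤ D.q) : Subgroup.closure (Set.range D.gen3) = ⊤ := by
  rw [range_eq]; exact D.closure_gens hq

theorem pres_of_derives (hq : 3 ≤ D.q) (i : ℕ) (m : ℤ[X]) (mx : ℤ[X]) (hm0 : aeval D.μK m = 0)
    (hker : ∀ P : ℤ[X], aeval D.μK P = 0 → ∃ Q R, P = C (D.p : ℤ) * Q + m * R)
    (hmx0 : aeval ((D.ν : F) ^ i) mx = 0)
    (hkerx : ∀ P : ℤ[X], aeval ((D.ν : F) ^ i) P = 0 → ∃ Q R, P = C (D.p : ℤ) * Q + mx * R)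
    (hsurjx : ∀ u : F, ∃ P : ℤ[X], aeval ((D.ν : F) ^ i) P = u)
    (R : Finset (FreeGroup (Fin 3))) (hR : R.card ≤ 12) (holds : ∀ r ∈ R, FreeGroup.lift D.gen3 r = 1)
    (hD : D.Derives i m mx R) : Pres D.gen3 18 := by
  classical
  haveI := D.char
  haveI hN := D.zc_normal₀ hq
  obtain ⟨X, hXadd, hX1, hXi⟩ := D.exists_quotHom hN
  have hXone : ∀ {w : D.B₀}, (w : D.B₀ ⧸ zc D.hGen D.zB) = 1 → w ∈ zc D.hGen D.zB :=
    fun h => (QuotientGroup.eq_one_iff _).1 h
  have hX0 : X 0 = 1 := by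
    have := hXadd 0 0
    rw [add_zero] at this
    exact mul_eq_left.1 this
  have hwd : ∀ P : ℤ[X], ((wd (D.hGen ^ i) D.xB P : D.B₀) : D.B₀ ⧸ zc D.hGen D.zB) =
      X (aeval ((D.ν : F) ^ i) P) := fun P => by
    rw [mk_wd, QuotientGroup.mk_pow]
    exact wd_eq _ _ _ X hXadd hX1 (hXi i) P
  obtain ⟨Pν, hPν⟩ := hsurjx (D.ν : F)
  have ht1 : FreeGroup.lift D.gen3 (xg ^ D.p) ∈ zc D.hGen D.zB := by
    refine hXone ?_
    rw [map_pow, FreeGroup.lift_apply_of, gen3_zero, QuotientGroup.mk_pow, ← hX1]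
    have hz : ∀ (n : ℕ), X 1 ^ n = X (n : F) := by
      intro n
      induction n with
      | zero => rw [pow_zero, Nat.cast_zero, hX0]
      | succ n ih => rw [pow_succ, ih, hXadd, Nat.cast_succ]
    rw [hz, CharP.cast_eq_zero, hX0]
  have ht2 : FreeGroup.lift D.gen3 (wd (hg ^ i) xg mx) ∈ zc D.hGen D.zB := by
    refine hXone ?_
    rw [map_wd, map_pow, FreeGroup.lift_apply_of, FreeGroup.lift_apply_of, gen3_zero, gen3_two, hwd, hmx0, hX0]
  have ht3 : FreeGroup.lift D.gen3 (hg * xg * hg⁻¹ * (wd (hg ^ i) xg Pν)⁻¹) ∈ zc D.hGen D.zB := by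
    refine hXone ?_
    simp only [map_mul, map_inv, map_wd, map_pow, FreeGroup.lift_apply_of, gen3_zero, gen3_two,
      QuotientGroup.mk_mul, QuotientGroup.mk_inv, hwd, hPν, mul_inv_eq_one, ← hX1]
    have := hXi 1 1
    rwa [pow_one, pow_one, mul_one] at this
  obtain ⟨s1, hs1, hd1⟩ := D.exists_zrel.{u, u} ht1
  obtain ⟨s2, hs2, hd2⟩ := D.exists_zrel.{u, u} ht2
  obtain ⟨s3, hs3, hd3⟩ := D.exists_zrel.{u, u} ht3
  set R' : Finset (FreeGroup (Fin 3)) :=
    insert (zg ^ D.p) (insert (wd hg zg m) (insert (hg ^ (D.q ^ 2 - 1)) (insert s1 (insert s2 (insert s3 R)))))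
    with hR'
  refine pres_of_bound (D.closure_gen3 hq) R' ?_ ?_ ?_
  · refine (Finset.card_insert_le _ _).trans (Nat.succ_le_succ ?_)
    refine (Finset.card_insert_le _ _).trans (Nat.succ_le_succ ?_)
    refine (Finset.card_insert_le _ _).trans (Nat.succ_le_succ ?_)
    refine (Finset.card_insert_le _ _).trans (Nat.succ_le_succ ?_)
    refine (Finset.card_insert_le _ _).trans (Nat.succ_le_succ ?_)
    exact (Finset.card_insert_le _ _).trans (Nat.succ_le_succ hR)
  · intro r hr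
    simp only [hR', Finset.mem_insert] at hr
    rcases hr with rfl | rfl | rfl | rfl | rfl | rfl | hr
    · rw [map_pow, FreeGroup.lift_apply_of, gen3_one, zB, ← map_pow, ← ofAdd_nsmul]
      rw [show D.p • (1 : D.K) = 0 from Subtype.ext (by simp)]
      exact map_one D.ζ
    · rw [map_wd, FreeGroup.lift_apply_of, FreeGroup.lift_apply_of, gen3_one, gen3_two,
        wd_eq D.hGen D.zB D.μK (fun u => D.ζ (Multiplicative.ofAdd u)) D.ζ_add rfl D.hGen_ζ, hm0]
      exact map_one D.ζ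
    · rw [map_pow, FreeGroup.lift_apply_of, gen3_two, D.hGen_order]
    · exact hs1
    · exact hs2
    · exact hs3
    · exact holds r hr
  intro Γ _ y hy hgen
  have hmem : ∀ {r}, r ∈ R' → FreeGroup.lift y r = 1 := fun {r} hr => hy r hr
  have h1 : y 1 ^ D.p = 1 := by simpa using hmem (r := zg ^ D.p) (by simp [hR'])
  have h2 : wd (y 2) (y 1) m = 1 := by simpa [map_wd] using hmem (r := wd hg zg m) (by simp [hR'])
  have h3 : y 2 ^ (D.q ^ 2 - 1) = 1 := by
    have := hmem (r := hg ^ (D.q ^ 2 - 1)) (by simp [hR'])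
    rwa [map_pow, FreeGroup.lift_apply_of] at this
  have h4 := hd1 y (hmem (r := s1) (by simp [hR']))
  have h5 := hd2 y (hmem (r := s2) (by simp [hR']))
  have h6 := hd3 y (hmem (r := s3) (by simp [hR']))
  simp only [map_mul, map_inv, map_wd, map_pow, FreeGroup.lift_apply_of] at h4 h5 h6
  obtain ⟨hzc, hcent, hxc⟩ := hD Γ y (fun r hr => hmem (by simp [hR', hr])) hgen h3 h1 h2 h5
  rw [range_eq] at hgen
  haveI : Finite D.K := Finite.of_injective _ Subtype.val_injective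
  obtain ⟨hfin, hle⟩ := finite_card_le D.N_pos hgen h3 D.μK m hker D.μK_surj h1 h2 hzc hcent
    ((D.ν : F) ^ i) mx hkerx hsurjx h4 h5 Pν h6 hxc
  refine ⟨hfin, hle.trans ?_⟩
  rw [D.natCard_B₀, D.natCard_K, Nat.card_eq_fintype_card, D.card]
  exact le_of_eq (by ring)

theorem exists_small (hf : D.f ≤ 3) (m : ℤ[X]) (hmon : m.Monic) (hdeg : m.natDegree ≤ D.f) (mx : ℤ[X])
    (hmxmon : mx.Monic) (hdegx : mx.natDegree ≤ 2 * D.f) (hq : 3 ≤ D.q) :
    ∃ R : Finset (FreeGroup (Fin 3)), R.card ≤ 12 ∧ (∀ r ∈ R, FreeGroup.lift D.gen3 r = 1) ∧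
      D.Derives 1 m mx R := by
  classical
  haveI hN := D.zc_normal₀ hq
  obtain ⟨X, hXadd, hX1, hXi⟩ := D.exists_quotHom hN
  have hXpow : ∀ j : ℕ, ((cj D.hGen D.xB j : D.B₀) : D.B₀ ⧸ zc D.hGen D.zB) = X ((D.ν : F) ^ j) := fun j => by
    rw [mk_cj]
    exact cj_eq hX1 (fun v => by have := hXi 1 v; rwa [pow_one, pow_one] at this) j
  have ht : ∀ j, FreeGroup.lift D.gen3 ⁅xg, cj (hg ^ 1) xg j⁆ ∈ zc D.hGen D.zB := by
    intro j
    rw [map_commutatorElement, commutator_mem_iff, map_cj, pow_one, FreeGroup.lift_apply_of,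
      FreeGroup.lift_apply_of, gen3_zero, gen3_two, hXpow, ← hX1]
    show X _ * X _ = X _ * X _
    rw [hXadd, hXadd, add_comm]
  choose s hs hd using fun j => D.exists_zrel.{u, u} (ht j)
  refine ⟨(Finset.range 3).image (fun j => ⁅zg, cj hg zg j⁆) ∪ (Finset.range 3).image (fun j => ⁅xg, cj hg zg j⁆) ∪
    (Finset.range 6).image s, ?_, ?_, ?_⟩
  · refine (Finset.card_union_le _ _).trans (Nat.add_le_add ((Finset.card_union_le _ _).trans
      (Nat.add_le_add Finset.card_image_le Finset.card_image_le)) Finset.card_image_le) |>.trans ?_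
    simp
  · intro r hr
    simp only [Finset.mem_union, Finset.mem_image] at hr
    rcases hr with (⟨j, -, rfl⟩ | ⟨j, -, rfl⟩) | ⟨j, -, rfl⟩
    · refine lift_comm_eq_one ?_
      rw [map_cj, FreeGroup.lift_apply_of, FreeGroup.lift_apply_of, gen3_one, gen3_two]
      simpa only [cj_zero] using D.hzc_model 0 j
    · refine lift_comm_eq_one ?_
      rw [map_cj, FreeGroup.lift_apply_of, FreeGroup.lift_apply_of, FreeGroup.lift_apply_of, gen3_zero,
        gen3_one, gen3_two]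
      exact D.hcent_model j
    · exact hs j
  intro G _ y hy hgen hord hzp hzm hxm
  rw [range_eq] at hgen
  have hmem1 : ∀ j < 3, Commute (y 1) (cj (y 2) (y 1) j) := fun j hj => by
    have := commute_of_lift (hy ⁅zg, cj hg zg j⁆ (by
      simp only [Finset.mem_union, Finset.mem_image]; exact Or.inl (Or.inl ⟨j, Finset.mem_range.2 hj, rfl⟩)))
    simpa [map_cj] using this
  have hmem2 : ∀ j < 3, Commute (y 0) (cj (y 2) (y 1) j) := fun j hj => by
    have := commute_of_lift (hy ⁅xg, cj hg zg j⁆ (by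
      simp only [Finset.mem_union, Finset.mem_image]; exact Or.inl (Or.inr ⟨j, Finset.mem_range.2 hj, rfl⟩)))
    simpa [map_cj] using this
  have hzc := commute_of_window hmon hzm (by omega : m.natDegree ≤ 3) hmem1
  have hcent : ∀ a, Commute (y 0) (cj (y 2) (y 1) a) := fun a =>
    commute_of_mem_closure (by rintro _ ⟨j, hj, rfl⟩; exact hmem2 j (by simp only [Set.mem_setOf_eq] at hj; omega))
      (cj_mem_window hmon hzm a)
  refine ⟨hzc, hcent, fun a b => ?_⟩
  haveI := zc_normal D.N_pos hord hgen hzc hcent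
  rw [commutator_mem_iff, mk_cj, mk_cj]
  refine commute_of_window hmxmon ?_ (by omega : mx.natDegree ≤ 6) (fun j hj => ?_) a b
  · rw [← mk_wd]
    exact (QuotientGroup.eq_one_iff _).2 hxm
  · have h1 := hd j y (hy (s j) (by
      simp only [Finset.mem_union, Finset.mem_image]; exact Or.inr ⟨j, Finset.mem_range.2 hj, rfl⟩))
    rw [map_commutatorElement, commutator_mem_iff, map_cj, map_pow, FreeGroup.lift_apply_of,
      FreeGroup.lift_apply_of, mk_cj] at h1
    exact h1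

theorem exists_large (hf : 4 ≤ D.f) (m : ℤ[X]) (hker : ∀ P : ℤ[X], aeval D.μK P = 0 → ∃ Q R,
      P = C (D.p : ℤ) * Q + m * R) (hq : 3 ≤ D.q) :
    ∃ i : ℕ, (∀ u : F, ∃ P : ℤ[X], aeval ((D.ν : F) ^ i) P = u) ∧ ∀ mx : ℤ[X],
      ∃ R : Finset (FreeGroup (Fin 3)), R.card ≤ 12 ∧ (∀ r ∈ R, FreeGroup.lift D.gen3 r = 1) ∧
        D.Derives i m mx R := by
  classical
  haveI hN := D.zc_normal₀ hq
  obtain ⟨X, hXadd, hX1, hXi⟩ := D.exists_quotHom hN
  obtain ⟨i, k, hk, hsurjx⟩ := D.exists_trick hf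
  obtain ⟨Pη, hPη⟩ := D.η_surj hf (D.ν : F)
  have h16 := D.sixteen_le hf
  have hμ1 : 1 + (D.μ : F) ≠ 0 := by
    intro h
    have h2 : (D.μ : F) ^ 2 = 1 := by linear_combination ((D.μ : F) - 1) * h
    rw [← Units.val_pow_eq_pow_val, Units.val_eq_one, ← orderOf_dvd_iff_pow_eq_one, D.orderOf_μ] at h2
    have := Nat.le_of_dvd (by norm_num) h2
    omega
  obtain ⟨k0, hk0⟩ := D.exists_μ_pow (c := 1 + (D.μ : F)) (by rw [map_add, map_one, D.σ_μ]) hμ1
  have hXj : ∀ (n j : ℕ), ((cj (D.hGen ^ n) D.xB j : D.B₀) : D.B₀ ⧸ zc D.hGen D.zB) =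
      X (((D.ν : F) ^ n) ^ j) := fun n j => by
    rw [mk_cj, QuotientGroup.mk_pow]
    exact cj_eq hX1 (hXi n) j
  have ht1 : FreeGroup.lift D.gen3 (hg * xg * hg⁻¹ * (wd (hg ^ (D.q - 1)) xg Pη)⁻¹) ∈ zc D.hGen D.zB := by
    rw [← QuotientGroup.eq_one_iff]
    simp only [map_mul, map_inv, map_wd, map_pow, FreeGroup.lift_apply_of, gen3_zero, gen3_two,
      QuotientGroup.mk_mul, QuotientGroup.mk_inv, mk_wd, QuotientGroup.mk_pow]
    rw [wd_eq _ _ _ X hXadd hX1 (hXi (D.q - 1)), hPη, mul_inv_eq_one, ← hX1]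
    have := hXi 1 1
    rwa [pow_one, pow_one, mul_one] at this
  have ht2 : FreeGroup.lift D.gen3 ⁅xg, cj (hg ^ i) xg 1⁆ ∈ zc D.hGen D.zB := by
    rw [map_commutatorElement, commutator_mem_iff, map_cj, map_pow, FreeGroup.lift_apply_of,
      FreeGroup.lift_apply_of, gen3_zero, gen3_two, hXj, ← hX1]
    show X _ * X _ = X _ * X _
    rw [hXadd, hXadd, add_comm]
  have ht3 : FreeGroup.lift D.gen3 (hg ^ k * xg * (hg ^ k)⁻¹ * (xg * cj (hg ^ i) xg 1)⁻¹) ∈ zc D.hGen D.zB := by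
    rw [← QuotientGroup.eq_one_iff]
    simp only [map_mul, map_inv, map_cj, map_pow, FreeGroup.lift_apply_of, gen3_zero, gen3_two,
      QuotientGroup.mk_mul, QuotientGroup.mk_inv, QuotientGroup.mk_pow, hXj]
    rw [← hX1, hXi k, hXadd, mul_one, pow_one, ← hk, mul_inv_cancel]
  obtain ⟨s1, hs1, hd1⟩ := D.exists_zrel.{u, u} ht1
  obtain ⟨s2, hs2, hd2⟩ := D.exists_zrel.{u, u} ht2
  obtain ⟨s3, hs3, hd3⟩ := D.exists_zrel.{u, u} ht3
  refine ⟨i, hsurjx, fun mx => ⟨{⁅zg, cj hg zg 1⁆, hg ^ k0 * zg * (hg ^ k0)⁻¹ * (zg * cj hg zg 1)⁻¹, ⁅xg, zg⁆,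
    s1, s2, s3}, ?_, ?_, ?_⟩⟩
  · refine (Finset.card_le_six).trans (by norm_num)
  · intro r hr
    simp only [Finset.mem_insert, Finset.mem_singleton] at hr
    rcases hr with rfl | rfl | rfl | rfl | rfl | rfl
    · refine lift_comm_eq_one ?_
      rw [map_cj, FreeGroup.lift_apply_of, FreeGroup.lift_apply_of, gen3_one, gen3_two]
      simpa only [cj_zero] using D.hzc_model 0 1
    · simp only [map_mul, map_inv, map_cj, map_pow, FreeGroup.lift_apply_of, gen3_one, gen3_two, mul_inv_eq_one]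
      show cj D.hGen D.zB k0 = D.zB * cj D.hGen D.zB 1
      rw [cj_eq (X := fun u => D.ζ (Multiplicative.ofAdd u)) (x := D.zB) rfl D.hGen_ζ,
        cj_eq (X := fun u => D.ζ (Multiplicative.ofAdd u)) (x := D.zB) rfl D.hGen_ζ, zB, D.ζ_add, pow_one]
      exact congrArg (fun u => D.ζ (Multiplicative.ofAdd u)) (Subtype.ext (by simpa [μK] using hk0))
    · refine lift_comm_eq_one ?_
      rw [FreeGroup.lift_apply_of, FreeGroup.lift_apply_of, gen3_zero, gen3_one]
      simpa only [cj_zero] using D.hcent_model 0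
    · exact hs1
    · exact hs2
    · exact hs3
  intro G _ y hy hgen hord hzp hzm hxm
  rw [range_eq] at hgen
  have e1 := commute_of_lift (hy ⁅zg, cj hg zg 1⁆ (by simp))
  have e2 := hy (hg ^ k0 * zg * (hg ^ k0)⁻¹ * (zg * cj hg zg 1)⁻¹) (by simp)
  have e3 := commute_of_lift (hy ⁅xg, zg⁆ (by simp))
  have e4 := hd1 y (hy s1 (by simp))
  have e5 := hd2 y (hy s2 (by simp))
  have e6 := hd3 y (hy s3 (by simp))
  simp only [map_mul, map_inv, map_cj, map_wd, map_pow, FreeGroup.lift_apply_of, mul_inv_eq_one] at e1 e2 e3 e4 e6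
  have hzc := commute_of_trick (g := y 2) (x := y 1) (y 2 ^ k0) ((Commute.refl _).pow_left k0) e1 e2
  have hμk : D.μK ^ (D.q - 1) = 1 := Subtype.ext (by
    show (D.μ : F) ^ (D.q - 1) = 1
    rw [← Units.val_pow_eq_pow_val, ← D.orderOf_μ, pow_orderOf_eq_one, Units.val_one])
  have hcent := cent_of_rel (r := D.q - 2) D.μK m hker D.μK_surj hμk
    (by rw [← pow_succ, show D.q - 2 + 1 = D.q - 1 by omega, hμk]) hzp hzm hzc e3 Pη e4
  refine ⟨hzc, hcent, fun a b => ?_⟩
  haveI := zc_normal D.N_pos hord hgen hzc hcent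
  rw [map_commutatorElement, commutator_mem_iff, map_cj, map_pow, FreeGroup.lift_apply_of,
    FreeGroup.lift_apply_of, mk_cj, QuotientGroup.mk_pow] at e5
  rw [← QuotientGroup.eq_one_iff, QuotientGroup.mk_mul, QuotientGroup.mk_inv, QuotientGroup.mk_mul,
    QuotientGroup.mk_mul, QuotientGroup.mk_inv, QuotientGroup.mk_pow, QuotientGroup.mk_mul, mk_cj,
    QuotientGroup.mk_pow, mul_inv_eq_one] at e6
  rw [commutator_mem_iff, mk_cj, mk_cj, QuotientGroup.mk_pow]
  exact commute_of_trick (g := (y 2 : G ⧸ zc (y 2) (y 1)) ^ i) (x := (y 0 : G ⧸ zc (y 2) (y 1))) _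
    (((Commute.refl _).pow_left k).pow_right i) e5 e6 a b

/-- The Borel subgroup on three elements with eighteen relators. -/
theorem pres_borel (hq : 3 ≤ D.q) : Pres D.gen3 18 := by
  haveI := Fact.mk D.hp
  haveI := D.char
  haveI : Finite D.K := Finite.of_injective _ Subtype.val_injective
  letI := Fintype.ofFinite D.K
  have hK : Fintype.card D.K = D.p ^ D.f := by
    rw [← Nat.card_eq_fintype_card, D.natCard_K, D.hqp]
  obtain ⟨m, hmon, hdeg, hm0, hker⟩ := exists_kerGen D.p D.f hK D.μK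
  rcases le_or_gt D.f 3 with hf | hf
  · obtain ⟨mx, hxmon, hxdeg, hx0, hkerx⟩ := exists_kerGen D.p (2 * D.f) D.card_eq_pow ((D.ν : F) ^ 1)
    obtain ⟨R, hR, holds, hD⟩ := D.exists_small hf m hmon hdeg mx hxmon hxdeg hq
    exact D.pres_of_derives hq 1 m mx hm0 hker hx0 hkerx (by simpa using D.ν_surj hq) R hR holds hD
  · obtain ⟨i, hsurjx, hL⟩ := D.exists_large hf m hker hq
    obtain ⟨mx, -, -, hx0, hkerx⟩ := exists_kerGen D.p (2 * D.f) D.card_eq_pow ((D.ν : F) ^ i)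
    obtain ⟨R, hR, holds, hD⟩ := hL mx
    exact D.pres_of_derives hq i m mx hm0 hker hx0 hkerx hsurjx R hR holds hD

end UData

end Cfsg.Agent.Lib.BoundedPresentation.U3
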