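import Mathlib
import Cfsg.Agent.Lib.BoundedPresentation.U3.Borel

/-!
A cover of `SU₃(q)` in which the Weyl element has its relations with the torus and with two root elements
has the Bruhat decomposition.
-/

set_option autoImplicit false
set_option linter.style.haveILetI false

namespace Cfsg.Agent.Lib.BoundedPresentation.U3

namespace UData

universe u v

variable {F : Type u} [Field F] [Fintype F] (D : UData F)

/-- A group over `SU₃(q)` with a copy of the Borel subgroup and a Weyl element. -/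
structure Cover (G : Type v) [Group G] where
  /-- The Borel subgroup upstairs. -/
  ι : D.B₀ →* G
  /-- The Weyl element upstairs. -/
  w : G
  /-- The projection. -/
  π : G →* D.G₀
  π_ι : ∀ b, π (ι b) = (b : D.G₀)
  π_w : π w = wEl
  w_sq : w * w = 1
  w_h : ∀ t, w * ι (hB D.σσ t) * w = ι (hB D.σσ (swapT D.σ t))

variable {D} {G : Type v} [Group G] (C : D.Cover G)

namespace Cover

/-- The left factor of the decomposition. -/
def left {a b : F} (h : Cond D.σ a b) (hb : b ≠ 0) : D.B₀ :=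
  uB D.σσ (-a / D.σ b) (1 / b) (h.swapA D.σσ hb) * hB D.σσ (swapT D.σ (Units.mk0 b hb))

/-- The right factor of the decomposition. -/
def right {a b : F} (h : Cond D.σ a b) (hb : b ≠ 0) : D.B₀ :=
  uB D.σσ (-a / b) (1 / b) (h.swapB D.σσ hb)

/-- The relation at a root element. -/
def Rel (a b : F) : Prop := ∀ (h : Cond D.σ a b) (hb : b ≠ 0),
  C.w * C.ι (uB D.σσ a b h) * C.w = C.ι (left h hb) * C.w * C.ι (right h hb)

include C in
theorem w_inv : C.w⁻¹ = C.w := inv_eq_of_mul_eq_one_right C.w_sq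

theorem w_mul_h (t : Fˣ) : C.w * C.ι (hB D.σσ t) = C.ι (hB D.σσ (swapT D.σ t)) * C.w := by
  rw [← C.w_h t, mul_assoc (C.w * C.ι (hB D.σσ t)), C.w_sq, mul_one]

theorem rel_of_exists {a b : F} (h : Cond D.σ a b) (p r : D.B₀)
    (e : C.w * C.ι (uB D.σσ a b h) * C.w = C.ι p * C.w * C.ι r) : C.Rel a b := by
  intro h' hb
  have e₀ : (wEl : D.G₀) * uEl D.σσ a b h * wEl = (p : D.G₀) * wEl * (r : D.G₀) := by
    have := congrArg C.π e
    simpa only [map_mul, C.π_ι, C.π_w, coe_uB] using this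
  have e₁ : (wEl : D.G₀) * uEl D.σσ a b h * wEl =
      ((left h hb : D.B₀) : D.G₀) * wEl * ((right h hb : D.B₀) : D.G₀) := by
    rw [decomp D.σσ h hb]
    simp only [left, right, Subgroup.coe_mul, coe_uB, coe_hB, mul_assoc]
  obtain ⟨c, d, hcd, t, hs⟩ := exists_uB_hB D.σσ (r * (right h hb)⁻¹)
  have hr : r = uB D.σσ c d hcd * hB D.σσ t * right h hb := by rw [← hs, inv_mul_cancel_right]
  have e₂ : ((p⁻¹ * left h hb : D.B₀) : D.G₀) = wEl * uEl D.σσ c d hcd * wEl * hEl D.σσ (swapT D.σ t) := by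
    have h2 := e₀.symm.trans e₁
    rw [hr] at h2
    simp only [Subgroup.coe_mul, coe_uB, coe_hB, ← mul_assoc] at h2
    have h3 := mul_right_cancel h2
    rw [← wEl_hEl D.σσ t, Subgroup.coe_mul, Subgroup.coe_inv]
    rw [show (wEl : D.G₀) * uEl D.σσ c d hcd * wEl * (wEl * hEl D.σσ t * wEl) =
      wEl * uEl D.σσ c d hcd * (wEl * wEl) * hEl D.σσ t * wEl by simp only [mul_assoc]]
    rw [wEl_sq, mul_one, inv_mul_eq_iff_eq_mul]
    calc (left h hb : D.G₀) = (left h hb : D.G₀) * wEl * wEl := by rw [mul_assoc, wEl_sq, mul_one]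
      _ = _ := by rw [← h3]; simp only [mul_assoc]
  have hmem : (wEl : D.G₀) * uEl D.σσ c d hcd * wEl ∈ D.B₀ := by
    have hm := mul_mem (p⁻¹ * left h hb).2 (inv_mem (hB D.σσ (swapT D.σ t)).2)
    rwa [coe_hB, e₂, mul_inv_cancel_right] at hm
  obtain ⟨rfl, rfl⟩ := eq_one_of_conj_mem D.σσ hcd hmem
  rw [uEl_zero, mul_one, wEl_sq, one_mul] at e₂
  have hl : left h hb = p * hB D.σσ (swapT D.σ t) := by
    rw [← inv_mul_eq_iff_eq_mul]
    exact Subtype.ext e₂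
  show C.w * C.ι (uB D.σσ a b h) * C.w = C.ι (left h hb) * C.w * C.ι (right h hb)
  rw [e, hl, hr, uB_zero, one_mul, map_mul, map_mul]
  calc C.ι p * C.w * (C.ι (hB D.σσ t) * C.ι (right h hb))
      = C.ι p * (C.w * C.ι (hB D.σσ t)) * C.ι (right h hb) := by simp only [mul_assoc]
    _ = _ := by rw [C.w_mul_h]; simp only [mul_assoc]

theorem rel_congr {a b a' b' : F} (hR : C.Rel a b) (ha : a = a') (hb : b = b') : C.Rel a' b' := ha ▸ hb ▸ hR

theorem rel_conj {a b : F} (h : Cond D.σ a b) (hb : b ≠ 0) (hR : C.Rel a b) (t : Fˣ) :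
    C.Rel (a * ((t : F) ^ 2 / D.σ t)) (b * (t * D.σ t)) := by
  refine C.rel_of_exists (h.conj D.σσ t) (hB D.σσ (swapT D.σ t) * left h hb)
    (right h hb * (hB D.σσ (swapT D.σ t))⁻¹) ?_
  rw [← hB_conj D.σσ h t, map_mul, map_mul, map_mul, map_mul, map_inv, map_inv]
  have e1 := C.w_mul_h t
  have e2 : (C.ι (hB D.σσ t))⁻¹ * C.w = C.w * (C.ι (hB D.σσ (swapT D.σ t)))⁻¹ := by
    rw [inv_mul_eq_iff_eq_mul, eq_comm, ← mul_assoc, mul_inv_eq_iff_eq_mul, ← C.w_h t]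
    simp only [mul_assoc]
    rw [← mul_assoc C.w C.w, C.w_sq, one_mul]
  calc C.w * (C.ι (hB D.σσ t) * C.ι (uB D.σσ a b h) * (C.ι (hB D.σσ t))⁻¹) * C.w
      = (C.w * C.ι (hB D.σσ t)) * C.ι (uB D.σσ a b h) * ((C.ι (hB D.σσ t))⁻¹ * C.w) := by
        simp only [mul_assoc]
    _ = C.ι (hB D.σσ (swapT D.σ t)) * (C.w * C.ι (uB D.σσ a b h) * C.w) *
          (C.ι (hB D.σσ (swapT D.σ t)))⁻¹ := by rw [e1, e2]; simp only [mul_assoc]
    _ = _ := by rw [hR h hb]; simp only [mul_assoc]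

theorem rel_inv {a b : F} (h : Cond D.σ a b) (hb : b ≠ 0) (hR : C.Rel a b) : C.Rel (-a) (D.σ b) := by
  refine C.rel_of_exists (h.inv D.σσ) (right h hb)⁻¹ (left h hb)⁻¹ ?_
  rw [← uB_inv D.σσ h, map_inv]
  have := congrArg (·⁻¹) (hR h hb)
  simp only [_root_.mul_inv_rev, C.w_inv, ← map_inv] at this
  rw [map_inv] at this
  rw [mul_assoc, mul_assoc]
  exact this

theorem rel_swap {a b : F} (h : Cond D.σ a b) (hb : b ≠ 0) (hR : C.Rel a b) : C.Rel (-a / b) (1 / b) := by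
  refine C.rel_of_exists (h.swapB D.σσ hb) (left h hb)⁻¹ (uB D.σσ a b h) ?_
  rw [map_inv]
  have hR' : C.ι (uB D.σσ (-a / b) (1 / b) (h.swapB D.σσ hb)) =
      C.w * (C.ι (left h hb))⁻¹ * (C.w * C.ι (uB D.σσ a b h) * C.w) := by
    rw [hR h hb]
    simp only [mul_assoc, inv_mul_cancel_left]
    rw [← mul_assoc, C.w_sq, one_mul]
    rfl
  rw [hR']
  simp only [mul_assoc, C.w_sq, mul_one]
  rw [← mul_assoc C.w C.w, C.w_sq, one_mul]

theorem rel_shift {a b : F} (h : Cond D.σ a b) (hb : b ≠ 0) (hR : C.Rel a b) : C.Rel (a / b) (1 / D.σ b) := by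
  refine C.rel_congr (C.rel_inv (h.swapB D.σσ hb) (one_div_ne_zero hb) (C.rel_swap h hb hR)) ?_ ?_
  · ring
  · rw [map_div₀, map_one]

theorem rel_comp {a b a₁ b₁ β : F} (h : Cond D.σ a b) (h₁ : Cond D.σ a₁ b₁) (hb₁ : b₁ ≠ 0)
    (ha : a₁ = a * b₁) (hβ : Cond D.σ 0 β) (hβ0 : β ≠ 0) (hb : b = 1 / D.σ b₁ + β) (hb0 : b ≠ 0)
    (R₁ : C.Rel a₁ b₁) (Rz : C.Rel 0 β) (Rc : C.Rel (-a₁ / D.σ b₁) (b / (β * b₁))) : C.Rel a b := by
  have hσb : D.σ b₁ ≠ 0 := (_root_.map_ne_zero _).2 hb₁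
  have hσβ : D.σ β ≠ 0 := (_root_.map_ne_zero _).2 hβ0
  set t₁ := swapT D.σ (Units.mk0 b₁ hb₁) with ht₁
  set tz := swapT D.σ (Units.mk0 β hβ0) with htz
  have hu : uB D.σσ a b h = (right h₁ hb₁)⁻¹ * uB D.σσ 0 β hβ := by
    simp only [right]
    rw [uB_inv, uB_mul]
    refine uB_eq _ _ _ ?_ ?_
    · rw [ha]; field_simp; ring
    · rw [map_zero, map_div₀, map_one, hb]; ring
  have hc : Cond D.σ (-a₁ / D.σ b₁) (b / (β * b₁)) ∧ ∀ hcc : Cond D.σ (-a₁ / D.σ b₁) (b / (β * b₁)),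
      left h₁ hb₁ * left hβ hβ0 = uB D.σσ _ _ hcc * hB D.σσ (t₁ * tz) := by
    have hA := (h₁.swapA D.σσ hb₁).mul D.σσ ((hβ.swapA D.σσ hβ0).conj D.σσ t₁)
    have e1 : -a₁ / D.σ b₁ + -0 / D.σ β * ((t₁ : F) ^ 2 / D.σ t₁) = -a₁ / D.σ b₁ := by simp
    have e2 : 1 / b₁ + 1 / β * ((t₁ : F) * D.σ t₁) - -a₁ / D.σ b₁ * D.σ (-0 / D.σ β * ((t₁ : F) ^ 2 / D.σ t₁)) =
        b / (β * b₁) := by
      simp only [ht₁, swapT_val, Units.val_mk0, neg_zero, zero_div, zero_mul, map_zero, mul_zero, sub_zero,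
        map_inv₀, D.σσ, hb]
      field_simp
      ring
    refine ⟨by rw [← e1, ← e2]; exact hA, fun hcc => ?_⟩
    rw [← uB_eq D.σσ hA hcc e1 e2, ← uB_mul D.σσ (h₁.swapA D.σσ hb₁) ((hβ.swapA D.σσ hβ0).conj D.σσ t₁),
      ← hB_conj D.σσ (hβ.swapA D.σσ hβ0) t₁, map_mul]
    simp only [left, ← ht₁, ← htz]
    group
  obtain ⟨hcc, hc⟩ := hc
  have hcc0 : b / (β * b₁) ≠ 0 := div_ne_zero hb0 (mul_ne_zero hβ0 hb₁)
  refine C.rel_of_exists h ((uB D.σσ a₁ b₁ h₁)⁻¹ * left hcc hcc0)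
    (right hcc hcc0 * hB D.σσ (swapT D.σ (t₁ * tz)) * right hβ hβ0) ?_
  have k1 : C.w * C.ι (uB D.σσ a₁ b₁ h₁) * C.w * C.ι (uB D.σσ a b h) * C.w =
      C.ι (left h₁ hb₁ * left hβ hβ0) * C.w * C.ι (right hβ hβ0) := by
    rw [R₁ h₁ hb₁, hu, map_mul, map_inv]
    simp only [mul_assoc, mul_inv_cancel_left]
    rw [show C.w * (C.ι (uB D.σσ 0 β hβ) * C.w) = C.w * C.ι (uB D.σσ 0 β hβ) * C.w by simp only [mul_assoc],
      Rz hβ hβ0, map_mul]
    simp only [mul_assoc]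
  have k2 : C.w * C.ι (uB D.σσ a b h) * C.w = (C.ι (uB D.σσ a₁ b₁ h₁))⁻¹ * (C.w *
      (C.w * C.ι (uB D.σσ a₁ b₁ h₁) * C.w * C.ι (uB D.σσ a b h) * C.w)) := by
    simp only [← mul_assoc, C.w_sq, one_mul, inv_mul_cancel]
  rw [k2, k1, hc hcc, map_mul C.ι, map_mul C.ι, map_mul C.ι, map_mul C.ι, map_inv]
  have k3 : C.w * (C.ι (uB D.σσ _ _ hcc) * C.ι (hB D.σσ (t₁ * tz)) * C.w * C.ι (right hβ hβ0)) =
      (C.w * C.ι (uB D.σσ _ _ hcc) * C.w) * (C.w * C.ι (hB D.σσ (t₁ * tz)) * C.w) * C.ι (right hβ hβ0) := by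
    simp only [mul_assoc]
    rw [← mul_assoc C.w C.w, C.w_sq, one_mul]
  rw [k3, Rc hcc hcc0, C.w_h]
  simp only [mul_assoc]

end Cover

end UData

end Cfsg.Agent.Lib.BoundedPresentation.U3
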