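import Mathlib
import Cfsg.Agent.Lib.BoundedPresentation.U3.Bruhat

/-!
Two root elements carry the relation of the Weyl element to all of the root group, so a cover is no larger
than `SU₃(q)`.
-/

set_option autoImplicit false
set_option linter.style.haveILetI false

namespace Cfsg.Agent.Lib.BoundedPresentation.U3

namespace UData

universe u v

variable {F : Type u} [Field F] [Fintype F] {D : UData F} {G : Type v} [Group G] (C : D.Cover G)

theorem eq_bOf {a b r : F} (h : Cond D.σ a b) (hr : D.σ r = r) (hb : b = r * D.e₁) : b = D.bOf a := by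
  have h' : b + D.σ b + a * D.σ a = 0 := h
  rw [hb, map_mul, hr] at h'
  rw [hb, bOf]
  congr 1
  rw [eq_div_iff D.e₁_trace]
  linear_combination h'

theorem bOf_coeff (D : UData F) (a : F) : D.σ (-(a * D.σ a) / (D.e₁ + D.σ D.e₁)) = -(a * D.σ a) / (D.e₁ + D.σ D.e₁) := by
  rw [map_div₀, map_neg, map_mul, map_add, D.σσ, D.σσ, mul_comm (D.σ a) a, add_comm (D.σ D.e₁)]

namespace Cover

theorem rel_zero (hz : C.Rel 0 D.θ) {β : F} (hβ : Cond D.σ 0 β) (hβ0 : β ≠ 0) : C.Rel 0 β := by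
  have hb : β + D.σ β = 0 := by simpa [Cond] using hβ
  obtain ⟨n, hn⟩ := D.exists_μ_pow (D.mem_K.1 (D.div_θ_mem hb)) (div_ne_zero hβ0 D.θ_ne)
  refine C.rel_congr (C.rel_conj (by simp [Cond, D.θ_σ]) D.θ_ne hz (D.ω ^ n)) (zero_mul _) ?_
  rw [Units.val_pow_eq_pow_val, map_pow, ← mul_pow, ← D.μ_val, hn, mul_div_cancel₀ _ D.θ_ne]

/-- The multipliers preserving the base class. -/
def Mult (s : Fˣ) : Prop :=
  ∀ t : Fˣ, C.Rel t (D.bOf t) → C.Rel ((t * s : Fˣ) : F) (D.bOf ((t * s : Fˣ) : F))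

theorem mult_mul {s s' : Fˣ} (h : C.Mult s) (h' : C.Mult s') : C.Mult (s * s') := fun t ht => by
  rw [← mul_assoc]; exact h' _ (h t ht)

theorem mult_img (s : Fˣ) (u : Fˣ) (hu : (u : F) = (s : F) ^ 2 / D.σ s) : C.Mult u := by
  intro t ht
  have hc := (D.cond_bOf (t : F)).conj D.σσ s
  refine C.rel_congr (C.rel_conj (D.cond_bOf _) (D.bOf_ne t.ne_zero) ht s) ?_ ?_
  · rw [Units.val_mul, hu]
  · have h1 := eq_bOf (r := -((t : F) * D.σ t) / (D.e₁ + D.σ D.e₁) * ((s : F) * D.σ s)) hc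
      (by rw [map_mul, D.bOf_coeff, map_mul D.σ (s : F), D.σσ, mul_comm (D.σ (s : F))])
      (by rw [bOf]; ring)
    rw [h1, Units.val_mul, hu]

theorem mult_fixed (r : Fˣ) (hr : D.σ (r : F) = r) : C.Mult r := by
  refine C.mult_img r r ?_
  rw [hr, sq, mul_div_assoc, div_self r.ne_zero, mul_one]

/-- The base class is reached from one seed. -/
theorem rel_base (hx : C.Rel 1 (D.bOf 1)) {a : F} (ha : a ≠ 0) : C.Rel a (D.bOf a) := by
  have hσω : D.σ (D.ω : F) ≠ 0 := (_root_.map_ne_zero _).2 D.ω.ne_zero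
  have he : C.Mult (Units.mk0 D.e₁ D.e₁_ne)⁻¹ := by
    intro t ht
    set r : F := -((t : F) * D.σ t) / (D.e₁ + D.σ D.e₁) with hr
    have hσr : D.σ r = r := D.bOf_coeff _
    have hb := D.bOf_ne t.ne_zero
    have hr0 : r ≠ 0 := fun h => hb (by rw [bOf, ← hr, h, zero_mul])
    have h1 := C.rel_shift (D.cond_bOf _) hb ht
    have hc : Cond D.σ ((t : F) / D.bOf t) (1 / D.σ (D.bOf t)) := by
      have := (((D.cond_bOf (t : F)).swapB D.σσ hb).inv D.σσ)
      rwa [neg_div, neg_neg, map_div₀, map_one] at this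
    have hσe : D.σ D.e₁ ≠ 0 := (_root_.map_ne_zero _).2 D.e₁_ne
    have h2 : 1 / D.σ (D.bOf t) = D.bOf ((t : F) / D.bOf t) := by
      refine eq_bOf (r := 1 / (r * (D.e₁ * D.σ D.e₁))) hc ?_ ?_
      · rw [map_div₀, map_one, map_mul, map_mul, hσr, D.σσ, mul_comm (D.σ D.e₁)]
      · rw [bOf, ← hr, map_mul, hσr]
        have := D.e₁_ne
        field_simp
    let t' : Fˣ := Units.mk0 ((t : F) / D.bOf t) (div_ne_zero t.ne_zero hb)
    have h3 := C.mult_fixed (Units.mk0 r hr0) hσr t' (C.rel_congr h1 rfl h2)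
    have e : ((t' * Units.mk0 r hr0 : Fˣ) : F) = ((t * (Units.mk0 D.e₁ D.e₁_ne)⁻¹ : Fˣ) : F) := by
      simp only [t', Units.val_mul, Units.val_mk0, Units.val_inv_eq_inv_val, bOf, ← hr]
      field_simp
    rw [e] at h3
    exact h3
  obtain ⟨ω2, hω2, hval2⟩ : ∃ s : Fˣ, C.Mult s ∧ (s : F) = ((D.ω : F) ^ 2)⁻¹ := by
    refine ⟨(Units.mk0 D.e₁ D.e₁_ne)⁻¹ * (Units.mk0 D.e₁ D.e₁_ne)⁻¹ * Units.mk0 (D.θ ^ 2) (pow_ne_zero _ D.θ_ne),
      C.mult_mul (C.mult_mul he he) (C.mult_fixed _ (by simp [D.θ_σ])), ?_⟩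
    simp only [Units.val_mul, Units.val_inv_eq_inv_val, Units.val_mk0, e₁]
    have := D.θ_ne
    have := D.ω.ne_zero
    field_simp
  obtain ⟨ω3, hω3, hval3⟩ : ∃ s : Fˣ, C.Mult s ∧ (s : F) = (D.ω : F) ^ 3 := by
    refine ⟨Units.mk0 ((D.ω : F) ^ 2 / D.σ D.ω) (div_ne_zero (pow_ne_zero _ D.ω.ne_zero) hσω) * D.μ,
      C.mult_mul (C.mult_img D.ω _ rfl) (C.mult_fixed _ D.σ_μ), ?_⟩
    rw [Units.val_mul, Units.val_mk0, D.μ_val]
    field_simp
  have hω : C.Mult D.ω := by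
    have e : ω3 * ω2 = D.ω := Units.ext (by
      rw [Units.val_mul, hval2, hval3]
      have := D.ω.ne_zero
      field_simp)
    rw [← e]; exact C.mult_mul hω3 hω2
  obtain ⟨n, hn⟩ := D.exists_pow (Units.mk0 a ha)
  have key : ∀ n : ℕ, C.Rel ((D.ω ^ n : Fˣ) : F) (D.bOf ((D.ω ^ n : Fˣ) : F)) := by
    intro n
    induction n with
    | zero => simpa using hx
    | succ n ih => rw [pow_succ]; exact hω _ ih
  have := key n
  rwa [hn] at this

/-- The two seeds give all relations. -/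
theorem rel_all (hz : C.Rel 0 D.θ) (hx : C.Rel 1 (D.bOf 1)) (a b : F) : C.Rel a b := by
  intro h hb
  by_cases ha : a = 0
  · subst ha; exact C.rel_zero hz h hb h hb
  suffices key : ∀ n : ℕ, ∀ a b r : F, a ≠ 0 → b ≠ 0 → D.σ r = r → b = r * (D.θ * (D.ω : F) ^ n) → C.Rel a b by
    obtain ⟨n, hn⟩ := D.exists_pow (Units.mk0 (b / D.θ) (div_ne_zero hb D.θ_ne))
    refine key n a b 1 ha hb (map_one _) ?_ h hb
    rw [one_mul, ← Units.val_pow_eq_pow_val, hn, Units.val_mk0, mul_div_cancel₀ _ D.θ_ne]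
  intro n
  induction n with
  | zero =>
    intro a b r ha _ hr e h
    refine absurd (h.a_eq_zero ?_) ha
    rw [e, pow_zero, mul_one, map_mul, hr, D.θ_σ]; ring
  | succ n ih =>
    intro a b r ha hb hr e h hb'
    rcases Nat.eq_zero_or_pos n with rfl | hn
    · have e1 : b = r * D.e₁ := by rw [e, zero_add, pow_one, e₁]
      have := C.rel_base hx ha
      rw [← eq_bOf h hr e1] at this
      exact this h hb'
    set k : F := -(D.e₁ + D.σ D.e₁) / (a * D.σ a * (D.e₁ * D.σ D.e₁)) with hk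
    have hσa : D.σ a ≠ 0 := (_root_.map_ne_zero _).2 ha
    have hσe : D.σ D.e₁ ≠ 0 := (_root_.map_ne_zero _).2 D.e₁_ne
    have he := D.e₁_ne
    have htr := D.e₁_trace
    have hσk : D.σ k = k := by
      rw [hk, map_div₀, map_neg, map_add, map_mul, map_mul, map_mul, D.σσ, D.σσ,
        add_comm (D.σ D.e₁), mul_comm (D.σ a) a, mul_comm (D.σ D.e₁) D.e₁]
    have hk0 : k ≠ 0 := div_ne_zero (neg_ne_zero.2 htr) (mul_ne_zero (mul_ne_zero ha hσa) (mul_ne_zero he hσe))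
    set b₁ : F := k * D.e₁ with hb₁
    have hb₁0 : b₁ ≠ 0 := mul_ne_zero hk0 he
    have hc₁ : Cond D.σ (a * b₁) b₁ := by
      simp only [Cond, hb₁, map_mul, hσk]
      rw [hk]
      field_simp
      ring
    have R₁ : C.Rel (a * b₁) b₁ := by
      have := C.rel_base hx (mul_ne_zero ha hb₁0)
      rwa [← eq_bOf hc₁ hσk rfl] at this
    clear_value b₁
    set β : F := b - 1 / D.σ b₁ with hβ
    have hβc : Cond D.σ 0 β := by
      have h1 : b + D.σ b + a * D.σ a = 0 := h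
      have h2 : b₁ + D.σ b₁ + a * b₁ * (D.σ a * D.σ b₁) = 0 := by rw [← map_mul]; exact hc₁
      have hσb : D.σ b₁ ≠ 0 := (_root_.map_ne_zero _).2 hb₁0
      simp only [Cond, hβ, map_sub, map_div₀, map_one, D.σσ, map_zero, mul_zero, add_zero]
      field_simp
      linear_combination (b₁ * D.σ b₁) * h1 - h2
    by_cases hβ0 : β = 0
    · have h3 := C.rel_shift hc₁ hb₁0 R₁
      rw [mul_div_assoc, div_self hb₁0, mul_one, ← sub_eq_zero.1 hβ0] at h3
      exact h3 h hb'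
    clear_value β
    obtain ⟨c, hcK, rfl⟩ : ∃ c, D.σ c = c ∧ β = D.θ * c := by
      have hb2 : β + D.σ β = 0 := by simpa [Cond] using hβc
      exact ⟨β / D.θ, D.mem_K.1 (D.div_θ_mem hb2), (mul_div_cancel₀ _ D.θ_ne).symm⟩
    have hθ := D.θ_ne
    have hc0 : c ≠ 0 := fun h0 => hβ0 (by rw [h0, mul_zero])
    refine C.rel_comp h hc₁ hb₁0 rfl hβc hβ0 ?_ hb R₁ (C.rel_zero hz hβc hβ0) ?_ h hb'
    · linear_combination -hβ
    · refine ih _ _ (r / (c * k * D.θ ^ 2)) ?_ (div_ne_zero hb (mul_ne_zero hβ0 hb₁0)) ?_ ?_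
      · exact div_ne_zero (neg_ne_zero.2 (mul_ne_zero ha hb₁0)) ((_root_.map_ne_zero _).2 hb₁0)
      · rw [map_div₀, map_mul, map_mul, map_pow, hr, hcK, hσk, D.θ_σ]; ring
      · have hω := D.ω.ne_zero
        rw [e, hb₁, e₁]
        field_simp
        ring

theorem finite_card_le (hz : C.Rel 0 D.θ) (hx : C.Rel 1 (D.bOf 1))
    (hgen : C.ι.range ⊔ Subgroup.zpowers C.w = ⊤) : Finite G ∧ Nat.card G ≤ Nat.card D.G₀ := by
  classical
  have hw_mul : ∀ u : {p : F × F // Cond D.σ p.1 p.2}, ∀ x : D.B₀, ∃ x' : D.B₀, ∃ u' : {p : F × F // Cond D.σ p.1 p.2},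
      C.w * C.ι (uB D.σσ _ _ u.2) * C.ι x = C.ι x' * C.w * C.ι (uB D.σσ _ _ u'.2) := by
    intro u x
    obtain ⟨c, d, hcd, t, e⟩ := exists_uB_hB D.σσ (uB D.σσ _ _ u.2 * x)
    have hc := hcd.conj D.σσ t⁻¹
    refine ⟨hB D.σσ (swapT D.σ t), ⟨(_, _), hc⟩, ?_⟩
    rw [mul_assoc, ← map_mul, e, ← hB_conj D.σσ hcd t⁻¹, ← C.w_mul_h, map_inv, inv_inv, map_mul, map_mul, map_mul,
      map_inv]
    group
  let Φ : D.B₀ × Option {p : F × F // Cond D.σ p.1 p.2} → G := fun x =>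
    match x.2 with
    | none => C.ι x.1
    | some u => C.ι x.1 * C.w * C.ι (uB D.σσ _ _ u.2)
  have mulι : ∀ x, ∀ y : D.B₀, ∃ x', Φ x' = Φ x * C.ι y := by
    rintro ⟨b, _ | u⟩ y
    · exact ⟨(b * y, none), map_mul _ _ _⟩
    · obtain ⟨x', u', e⟩ := hw_mul u y
      refine ⟨(b * x', some u'), ?_⟩
      show C.ι (b * x') * C.w * _ = C.ι b * C.w * _ * C.ι y
      rw [map_mul, mul_assoc (C.ι b) (C.ι x') C.w, mul_assoc (C.ι b), ← e]
      simp only [mul_assoc]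
  have mulw : ∀ x, ∃ x', Φ x' = Φ x * C.w := by
    rintro ⟨b, _ | u⟩
    · refine ⟨(b, some ⟨(0, 0), cond_zero⟩), ?_⟩
      show C.ι b * C.w * C.ι (uB D.σσ 0 0 _) = C.ι b * C.w
      rw [uB_zero, map_one, mul_one]
    · by_cases hu : u.1.2 = 0
      · refine ⟨(b, none), ?_⟩
        show C.ι b = C.ι b * C.w * C.ι (uB D.σσ _ _ u.2) * C.w
        have ha : u.1.1 = 0 := u.2.a_eq_zero (by rw [hu, map_zero, add_zero])
        rw [uB_eq D.σσ u.2 cond_zero ha hu, uB_zero, map_one, mul_one, mul_assoc, C.w_sq, mul_one]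
      · refine ⟨(b * left u.2 hu, some ⟨(_, _), u.2.swapB D.σσ hu⟩), ?_⟩
        show C.ι (b * left u.2 hu) * C.w * C.ι (right u.2 hu) = C.ι b * C.w * C.ι (uB D.σσ _ _ u.2) * C.w
        rw [map_mul, mul_assoc (C.ι b) C.w, mul_assoc (C.ι b) (C.w * _), C.rel_all hz hx _ _ u.2 hu]
        simp only [mul_assoc]
  have hΦ : Function.Surjective Φ := by
    intro g
    have hg : g ∈ Subgroup.closure ((C.ι.range : Set G) ∪ {C.w}) := by
      rw [Subgroup.closure_union, Subgroup.closure_eq, ← Subgroup.zpowers_eq_closure, hgen]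
      trivial
    induction hg using Subgroup.closure_induction_right with
    | one => exact ⟨(1, none), map_one _⟩
    | mul_right x _ y hy ih =>
      obtain ⟨x, rfl⟩ := ih
      rcases hy with ⟨b, rfl⟩ | rfl
      · exact mulι x b
      · exact mulw x
    | mul_inv_cancel x _ y hy ih =>
      obtain ⟨x, rfl⟩ := ih
      rcases hy with ⟨b, rfl⟩ | rfl
      · rw [← map_inv]; exact mulι x b⁻¹
      · rw [C.w_inv]; exact mulw x
  haveI : Finite G := Finite.of_surjective Φ hΦ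
  refine ⟨inferInstance, (Nat.card_le_card_of_surjective Φ hΦ).trans (le_of_eq ?_)⟩
  rw [Nat.card_prod, Finite.card_option, D.natCard_pairs, D.natCard_B₀, D.natCard_G₀]
  ring

end Cover

end UData

end Cfsg.Agent.Lib.BoundedPresentation.U3
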