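import Mathlib
import Cfsg.Agent.Lib.BoundedPresentation.U3.BorelPres
import Cfsg.Agent.Lib.BoundedPresentation.U3.Closure
import Cfsg.Agent.Lib.BoundedPresentation.PresOps
import Cfsg.Agent.Lib.Classical.UnitaryCentre

/-!
`SU₃(q)`, `q ≥ 3`, has a presentation on three named elements with twenty-two relators.
-/

set_option autoImplicit false
set_option linter.style.haveILetI false

namespace Cfsg.Agent.Lib.BoundedPresentation.U3

universe u

namespace UData

variable {F : Type u} [Field F] [Fintype F] (D : UData F)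

/-- The four named elements. -/
def gen4 : Fin 4 → D.G₀ := Fin.snoc (fun i => (D.gen3 i : D.G₀)) wEl

theorem gen4_castSucc (i : Fin 3) : D.gen4 i.castSucc = (D.gen3 i : D.G₀) := by simp [gen4]

theorem gen4_last : D.gen4 (Fin.last 3) = wEl := by rw [gen4]; exact Fin.snoc_last (α := fun _ => D.G₀) _ _

theorem borel_sup_w : D.B₀ ⊔ Subgroup.zpowers (wEl : D.G₀) = ⊤ := by
  set S := D.B₀ ⊔ Subgroup.zpowers (wEl : D.G₀)
  refine Subgroup.eq_top_of_le_card _ ?_
  let Ψ : D.B₀ × Option {p : F × F // Cond D.σ p.1 p.2} → S := fun x =>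
    match x.2 with
    | none => ⟨x.1, Subgroup.mem_sup_left x.1.2⟩
    | some u => ⟨(x.1 : D.G₀) * wEl * uEl D.σσ _ _ u.2, mul_mem (mul_mem (Subgroup.mem_sup_left x.1.2)
        (Subgroup.mem_sup_right (Subgroup.mem_zpowers _))) (Subgroup.mem_sup_left (uB D.σσ _ _ u.2).2)⟩
  have hw : ∀ {a b : F} (h : Cond D.σ a b), (wEl : D.G₀) * uEl D.σσ a b h ∉ D.B₀ := by
    intro a b h hm
    have h1 : (wEl : D.G₀) ∈ D.B₀ := by
      have := mul_mem hm (inv_mem (uB D.σσ a b h).2)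
      rwa [coe_uB, mul_inv_cancel_right] at this
    obtain ⟨c, d, hcd, t, e⟩ := h1
    have e' : (wMat : Matrix (Fin 3) (Fin 3) F) = uMat D.σ c d * hMat D.σ t :=
      congrArg (fun g : D.G₀ => g.1.1) e
    have := congrFun (congrFun e' 2) 0
    simp [wMat, uMat, hMat, Matrix.mul_apply, Fin.sum_univ_three] at this
  have hΨ : Function.Injective Ψ := by
    rintro ⟨b, _ | u⟩ ⟨b', _ | u'⟩ e <;> have e' := congrArg Subtype.val e <;> simp only [Ψ] at e'
    · rw [Subtype.ext e']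
    · exact absurd (by
        have : (b'⁻¹ * b : D.B₀).1 = wEl * uEl D.σσ _ _ u'.2 := by
          rw [Subgroup.coe_mul, Subgroup.coe_inv, e']; group
        rw [← this]; exact (b'⁻¹ * b).2) (hw u'.2)
    · exact absurd (by
        have : (b⁻¹ * b' : D.B₀).1 = wEl * uEl D.σσ _ _ u.2 := by
          rw [Subgroup.coe_mul, Subgroup.coe_inv, ← e']; group
        rw [← this]; exact (b⁻¹ * b').2) (hw u.2)
    · have h0 := (u.2.mul D.σσ (u'.2.inv D.σσ))
      have h1 : (wEl : D.G₀) * uEl D.σσ _ _ h0 * wEl ∈ D.B₀ := by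
        rw [← uEl_mul D.σσ u.2 (u'.2.inv D.σσ), ← uEl_inv D.σσ u'.2]
        have : (wEl : D.G₀) * (uEl D.σσ _ _ u.2 * (uEl D.σσ _ _ u'.2)⁻¹) * wEl = (b⁻¹ * b' : D.B₀).1 := by
          rw [Subgroup.coe_mul, Subgroup.coe_inv]
          have h2 : (b : D.G₀) * wEl * uEl D.σσ _ _ u.2 * (uEl D.σσ _ _ u'.2)⁻¹ * (wEl : D.G₀) = (b' : D.G₀) := by
            rw [e', mul_inv_cancel_right, mul_assoc, wEl_sq, mul_one]
          conv_rhs => rw [← h2]
          group
        rw [this]; exact (b⁻¹ * b').2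
      obtain ⟨ha, hb⟩ := eq_one_of_conj_mem D.σσ h0 h1
      have hu : u = u' := by
        refine Subtype.ext (Prod.ext (by linear_combination ha) ?_)
        have haa : u.1.1 = u'.1.1 := by linear_combination ha
        have h2 : u'.1.2 + D.σ u'.1.2 + u'.1.1 * D.σ u'.1.1 = 0 := u'.2
        rw [map_neg, haa] at hb
        linear_combination hb - h2
      subst hu
      rw [Subtype.ext (mul_right_cancel (mul_right_cancel e'))]
  have hc := Nat.card_le_card_of_injective Ψ hΨ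
  rw [Nat.card_prod, Finite.card_option, D.natCard_pairs, D.natCard_B₀] at hc
  rw [D.natCard_G₀]
  exact le_trans (le_of_eq (by ring)) hc

theorem closure_gen4 (hq : 3 ≤ D.q) : Subgroup.closure (Set.range D.gen4) = ⊤ := by
  rw [eq_top_iff, ← D.borel_sup_w, sup_le_iff, Subgroup.zpowers_le]
  refine ⟨?_, Subgroup.subset_closure ⟨_, D.gen4_last⟩⟩
  have h : D.B₀ = (Subgroup.closure (Set.range D.gen3)).map D.B₀.subtype := by
    rw [D.closure_gen3 hq, ← MonoidHom.range_eq_map, Subgroup.range_subtype]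
  rw [h, MonoidHom.map_closure, ← Set.range_comp]
  refine Subgroup.closure_mono ?_
  rintro _ ⟨i, rfl⟩
  exact ⟨i.castSucc, D.gen4_castSucc i⟩

theorem pres_gen4 (hq : 3 ≤ D.q) : Pres D.gen4 22 := by
  classical
  obtain ⟨R, W, hc, hR, hW, hext⟩ := (D.pres_borel hq).words (D.closure_gen3 hq)
  let c : Fin 3 → Fin 4 := Fin.castSucc
  let wd' : D.B₀ → FreeGroup (Fin 4) := fun b => FreeGroup.map c (W b)
  let wg : FreeGroup (Fin 4) := FreeGroup.of (Fin.last 3)
  have hwd : ∀ b, FreeGroup.lift D.gen4 (wd' b) = (b : D.G₀) := fun b => by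
    rw [lift_map_comp, show D.gen4 ∘ c = fun i => D.B₀.subtype (D.gen3 i) from funext D.gen4_castSucc,
      ← map_lift, hW]
    rfl
  have hxe : D.bOf 1 ≠ 0 := D.bOf_ne one_ne_zero
  have hθc : Cond D.σ 0 D.θ := by simp [Cond, D.θ_σ]
  let S : Finset (FreeGroup (Fin 4)) := R.image (FreeGroup.map c) ∪ {wg * wg,
    wg * wd' (hB D.σσ D.ω) * wg * (wd' (hB D.σσ (swapT D.σ D.ω)))⁻¹,
    wg * wd' (uB D.σσ 0 D.θ hθc) * wg * (wd' (Cover.left hθc D.θ_ne) * wg * wd' (Cover.right hθc D.θ_ne))⁻¹,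
    wg * wd' (uB D.σσ 1 (D.bOf 1) (D.cond_bOf 1)) * wg *
      (wd' (Cover.left (D.cond_bOf 1) hxe) * wg * wd' (Cover.right (D.cond_bOf 1) hxe))⁻¹}
  refine ⟨S, (Finset.card_union_le _ _).trans (Nat.add_le_add (Finset.card_image_le.trans hc) Finset.card_le_four),
    ?_, ?_⟩
  · intro r hr
    simp only [S, Finset.mem_union, Finset.mem_image, Finset.mem_insert, Finset.mem_singleton] at hr
    rcases hr with ⟨z, hz, rfl⟩ | rfl | rfl | rfl | rfl
    · rw [lift_map_comp, show D.gen4 ∘ c = fun i => D.B₀.subtype (D.gen3 i) from funext D.gen4_castSucc,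
        ← map_lift, hR z hz, map_one]
    · simp only [wg, map_mul, FreeGroup.lift_apply_of, gen4_last, wEl_sq]
    · simp only [wg, map_mul, map_inv, FreeGroup.lift_apply_of, gen4_last, hwd, coe_hB, wEl_hEl, mul_inv_cancel]
    · simp only [wg, map_mul, map_inv, FreeGroup.lift_apply_of, gen4_last, hwd, coe_uB, Cover.left, Cover.right,
        Subgroup.coe_mul, coe_hB, decomp D.σσ hθc D.θ_ne, mul_inv_cancel]
    · simp only [wg, map_mul, map_inv, FreeGroup.lift_apply_of, gen4_last, hwd, coe_uB, Cover.left, Cover.right,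
        Subgroup.coe_mul, coe_hB, decomp D.σσ (D.cond_bOf 1) hxe, mul_inv_cancel]
  intro G _ y hy
  obtain ⟨ψ, hψ, hψW⟩ := hext G (y ∘ c) fun z hz => by
    rw [← lift_map_comp]; exact hy _ (Finset.mem_union_left _ (Finset.mem_image_of_mem _ hz))
  have hlift : ∀ b, FreeGroup.lift y (wd' b) = ψ b := fun b => by rw [lift_map_comp, hψW]
  let wv : G := y (Fin.last 3)
  have r1 : wv * wv = 1 := by
    have := hy (wg * wg) (Finset.mem_union_right _ (by simp))
    rwa [map_mul, FreeGroup.lift_apply_of] at this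
  have r2 : wv * ψ (hB D.σσ D.ω) * wv = ψ (hB D.σσ (swapT D.σ D.ω)) := by
    have := hy (wg * wd' (hB D.σσ D.ω) * wg * (wd' (hB D.σσ (swapT D.σ D.ω)))⁻¹)
      (Finset.mem_union_right _ (by simp))
    rwa [map_mul, map_inv, map_mul, map_mul, FreeGroup.lift_apply_of, hlift, hlift, mul_inv_eq_one] at this
  have r3 : wv * ψ (uB D.σσ 0 D.θ hθc) * wv = ψ (Cover.left hθc D.θ_ne) * wv * ψ (Cover.right hθc D.θ_ne) := by
    have := hy (wg * wd' (uB D.σσ 0 D.θ hθc) * wg *
      (wd' (Cover.left hθc D.θ_ne) * wg * wd' (Cover.right hθc D.θ_ne))⁻¹) (Finset.mem_union_right _ (by simp))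
    rwa [map_mul, map_inv, map_mul, map_mul, map_mul, map_mul, FreeGroup.lift_apply_of, hlift, hlift, hlift,
      mul_inv_eq_one] at this
  have r4 : wv * ψ (uB D.σσ 1 (D.bOf 1) (D.cond_bOf 1)) * wv =
      ψ (Cover.left (D.cond_bOf 1) hxe) * wv * ψ (Cover.right (D.cond_bOf 1) hxe) := by
    have := hy (wg * wd' (uB D.σσ 1 (D.bOf 1) (D.cond_bOf 1)) * wg *
      (wd' (Cover.left (D.cond_bOf 1) hxe) * wg * wd' (Cover.right (D.cond_bOf 1) hxe))⁻¹)
      (Finset.mem_union_right _ (by simp))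
    rwa [map_mul, map_inv, map_mul, map_mul, map_mul, map_mul, FreeGroup.lift_apply_of, hlift, hlift, hlift,
      mul_inv_eq_one] at this
  let ι₀ : D.B₀ →* D.G₀ × G := D.B₀.subtype.prod ψ
  let w₀ : D.G₀ × G := (wEl, wv)
  let Γ : Subgroup (D.G₀ × G) := ι₀.range ⊔ Subgroup.zpowers w₀
  let ιΓ : D.B₀ →* Γ := ι₀.codRestrict Γ fun b => Subgroup.mem_sup_left ⟨b, rfl⟩
  let wΓ : Γ := ⟨w₀, Subgroup.mem_sup_right (Subgroup.mem_zpowers _)⟩
  have hwh : ∀ t, wΓ * ιΓ (hB D.σσ t) * wΓ = ιΓ (hB D.σσ (swapT D.σ t)) := by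
    intro t
    refine Subtype.ext (Prod.ext (wEl_hEl D.σσ t) ?_)
    show wv * ψ (hB D.σσ t) * wv = ψ (hB D.σσ (swapT D.σ t))
    obtain ⟨n, rfl⟩ := D.exists_pow t
    rw [map_pow, map_pow, map_pow, map_pow, map_pow, ← r2]
    induction n with
    | zero => rw [pow_zero, mul_one, r1, pow_zero]
    | succ n ih =>
      rw [pow_succ, pow_succ, ← ih]
      simp only [mul_assoc]
      rw [← mul_assoc wv wv, r1, one_mul]
  let C : D.Cover Γ :=
    { ι := ιΓ, w := wΓ, π := (MonoidHom.fst D.G₀ G).comp Γ.subtype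
      π_ι := fun _ => rfl, π_w := rfl
      w_sq := Subtype.ext (Prod.ext wEl_sq r1)
      w_h := hwh }
  have hz : C.Rel 0 D.θ := fun h hb => by
    refine Subtype.ext (Prod.ext ?_ r3)
    show (wEl : D.G₀) * uEl D.σσ 0 D.θ h * wEl = _
    rw [decomp D.σσ h hb]
    rfl
  have hx : C.Rel 1 (D.bOf 1) := fun h hb => by
    refine Subtype.ext (Prod.ext ?_ r4)
    show (wEl : D.G₀) * uEl D.σσ 1 (D.bOf 1) h * wEl = _
    rw [decomp D.σσ h hb]
    rfl
  have hgen : C.ι.range ⊔ Subgroup.zpowers C.w = ⊤ := by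
    apply Subgroup.map_injective Γ.subtype_injective
    rw [Subgroup.map_sup, MonoidHom.map_range, MonoidHom.map_zpowers, ← MonoidHom.range_eq_map,
      Subgroup.range_subtype]
    rfl
  obtain ⟨hfin, hcard⟩ := C.finite_card_le hz hx hgen
  have hsurj : Function.Surjective C.π := by
    rw [← MonoidHom.range_eq_top, eq_top_iff, ← D.borel_sup_w, sup_le_iff, Subgroup.zpowers_le]
    exact ⟨fun b hb => ⟨C.ι ⟨b, hb⟩, rfl⟩, ⟨C.w, rfl⟩⟩
  let e := MulEquiv.ofBijective C.π (Function.Surjective.bijective_of_nat_card_le hsurj hcard)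
  refine ⟨((MonoidHom.snd D.G₀ G).comp Γ.subtype).comp e.symm.toMonoidHom, fun i => ?_⟩
  refine Fin.lastCases ?_ (fun j => ?_) i
  · have h : e.symm (D.gen4 (Fin.last 3)) = C.w := e.symm_apply_eq.2 D.gen4_last
    simp only [MonoidHom.comp_apply, MulEquiv.coe_toMonoidHom, h]
    rfl
  · have h : e.symm (D.gen4 j.castSucc) = C.ι (D.gen3 j) := e.symm_apply_eq.2 (D.gen4_castSucc j)
    simp only [MonoidHom.comp_apply, MulEquiv.coe_toMonoidHom, h]
    exact hψ j

theorem exists_gen3 (hq : 3 ≤ D.q) : ∃ N : Fin 3 → D.G₀, Pres N 22 ∧ Subgroup.closure (Set.range N) = ⊤ := by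
  have hinj : Function.Injective (![0, 2, 3] : Fin 3 → Fin 4) := by decide
  have hg : Subgroup.closure (Set.range fun k => D.gen4 ((![0, 2, 3] : Fin 3 → Fin 4) k)) = ⊤ := by
    set H := Subgroup.closure (Set.range fun k => D.gen4 ((![0, 2, 3] : Fin 3 → Fin 4) k))
    have h0 : (D.xB : D.G₀) ∈ H := Subgroup.subset_closure ⟨0, D.gen4_castSucc 0⟩
    have h2 : (D.hGen : D.G₀) ∈ H := Subgroup.subset_closure ⟨1, D.gen4_castSucc 2⟩
    have h3 : (wEl : D.G₀) ∈ H := Subgroup.subset_closure ⟨2, D.gen4_last⟩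
    let A : AddSubgroup F :=
      { carrier := {a | ∃ b, ∃ h : Cond D.σ a b, uEl D.σσ a b h ∈ H}
        zero_mem' := ⟨0, cond_zero, by rw [uEl_zero]; exact one_mem _⟩
        add_mem' := by
          rintro a c ⟨b, h, hm⟩ ⟨d, h', hm'⟩
          exact ⟨_, h.mul D.σσ h', by rw [← uEl_mul D.σσ h h']; exact mul_mem hm hm'⟩
        neg_mem' := by
          rintro a ⟨b, h, hm⟩
          exact ⟨_, h.inv D.σσ, by rw [← uEl_inv D.σσ h]; exact inv_mem hm⟩ }
    have hA : ∀ a, a ∈ A := by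
      intro a
      obtain ⟨P, rfl⟩ := D.ν_surj hq a
      induction P using Polynomial.induction_on' with
      | add P Q hP hQ => rw [map_add]; exact A.add_mem hP hQ
      | monomial j c =>
        obtain ⟨b', h', e⟩ := D.hGen_pow_conj j (D.cond_bOf 1)
        rw [Polynomial.aeval_monomial, algebraMap_int_eq, eq_intCast, ← zsmul_eq_mul]
        refine A.zsmul_mem ?_ c
        rw [← mul_one ((D.ν : F) ^ j)]
        refine ⟨b', h', ?_⟩
        rw [← coe_uB D.σσ _ _ h', ← e, Subgroup.coe_mul, Subgroup.coe_mul, Subgroup.coe_inv, Subgroup.coe_pow]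
        exact mul_mem (mul_mem (pow_mem h2 j) h0) (inv_mem (pow_mem h2 j))
    rw [eq_top_iff, ← D.closure_gen4 hq, Subgroup.closure_le]
    rintro _ ⟨i, rfl⟩
    refine Fin.lastCases ?_ (fun j => ?_) i
    · rw [gen4_last]; exact h3
    · rw [gen4_castSucc]
      fin_cases j
      · exact h0
      · obtain ⟨b₁, h₁, m₁⟩ := hA 1
        obtain ⟨b₂, h₂, m₂⟩ := hA (D.ω : F)
        set β₀ : F := (D.ω : F) - D.σ D.ω with hβ₀
        have hσβ : D.σ β₀ = -β₀ := by rw [hβ₀, map_sub, D.σσ]; ring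
        have hc₀ : Cond D.σ 0 β₀ := by simp [Cond, hσβ]
        have hne : β₀ ≠ 0 := sub_ne_zero.2 (Ne.symm D.σ_ω_ne)
        have m₀ : uEl D.σσ 0 β₀ hc₀ ∈ H := by
          have e : uEl D.σσ 0 β₀ hc₀ =
              uEl D.σσ _ _ h₁ * uEl D.σσ _ _ h₂ * (uEl D.σσ _ _ h₁)⁻¹ * (uEl D.σσ _ _ h₂)⁻¹ := by
            rw [uEl_inv, uEl_inv, uEl_mul, uEl_mul, uEl_mul]
            refine uEl_eq D.σσ _ _ (by ring) ?_
            have e1 : b₁ + D.σ b₁ + 1 * D.σ 1 = 0 := h₁
            have e2 : b₂ + D.σ b₂ + (D.ω : F) * D.σ D.ω = 0 := h₂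
            simp only [map_neg, map_one] at e1 ⊢
            rw [hβ₀]
            linear_combination -e1 - e2
          rw [e]
          exact mul_mem (mul_mem (mul_mem m₁ m₂) (inv_mem m₁)) (inv_mem m₂)
        obtain ⟨n, hn⟩ := D.exists_μ_pow (c := D.θ / β₀)
          (by rw [map_div₀, D.θ_σ, hσβ, neg_div_neg_eq]) (div_ne_zero D.θ_ne hne)
        have hconj := mul_mem (mul_mem (pow_mem h2 n) m₀) (inv_mem (pow_mem h2 n))
        rw [← Subgroup.coe_pow, hGen, ← map_pow, coe_hB, hEl_conj D.σσ hc₀] at hconj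
        show (D.zB : D.G₀) ∈ H
        rw [show (D.zB : D.G₀) = uEl D.σσ _ _ (hc₀.conj D.σσ (D.ω ^ n)) from ?_]
        · exact hconj
        refine uEl_eq D.σσ (D.cond_θ 1) _ (zero_mul _).symm ?_
        show D.θ * ((1 : D.K) : F) = _
        rw [Units.val_pow_eq_pow_val, map_pow, ← mul_pow, ← D.μ_val, hn, mul_div_cancel₀ _ hne, OneMemClass.coe_one,
          mul_one]
      · exact h2
  exact ⟨_, (D.pres_gen4 hq).restrict hinj hg, hg⟩

end UData

end Cfsg.Agent.Lib.BoundedPresentation.U3
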