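import Mathlib
import Cfsg.Agent.Lib.BoundedPresentation.U3.Main
import Cfsg.Agent.Lib.BoundedPresentation.SpPres

/-!
Three named elements and boundedly many relators for the standard `SU₃(q)` and `PSU₃(q)`.
-/

set_option autoImplicit false

namespace Cfsg.Agent.Lib.BoundedPresentation.U3

universe u

theorem pres_SU_three {F : Type u} [Field F] [Fintype F] {q : ℕ} (hF : Fintype.card F = q ^ 2) (hq : 3 ≤ q) :
    ∃ N : Fin 3 → ↥(Cfsg.SU 3 F q), Pres N 22 ∧ Subgroup.closure (Set.range N) = ⊤ := by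
  obtain ⟨D, rfl⟩ := exists_uData hF
  obtain ⟨N, hN, hgen⟩ := D.exists_gen3 hq
  obtain ⟨e⟩ := exists_equiv D.card D.σ_eq
  refine ⟨fun i => e (N i), hN.map_equiv e, ?_⟩
  have := congrArg (Subgroup.map e.toMonoidHom) hgen
  rw [MonoidHom.map_closure, ← Set.range_comp, Subgroup.map_top_of_surjective _ e.surjective] at this
  exact this

theorem pres_PSU_three {F : Type u} [Field F] [Fintype F] {q : ℕ} (hF : Fintype.card F = q ^ 2) (hq : 3 ≤ q) :
    ∃ N : Fin 3 → Cfsg.PSU 3 F q, Pres N 23 ∧ Subgroup.closure (Set.range N) = ⊤ := by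
  obtain ⟨N, hN, hgen⟩ := pres_SU_three hF hq
  have hcard := Classical.natCard_center_SU (F := F) hF 3 (by norm_num)
  haveI : IsCyclic (Subgroup.center ↥(Cfsg.SU 3 F q)) :=
    isCyclic_of_card_dvd_prime (p := 3) (hcard ▸ Nat.gcd_dvd_left _ _)
  exact SpGlue.pres_center_quotient hN hgen

end Cfsg.Agent.Lib.BoundedPresentation.U3
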